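import Mathlib
import Cfsg.Agent.Lib.PiClasses.Basic

/-!
Counting classes of `π`-elements: sums over centralisers, orbit bound, `π`-parts.
-/

set_option autoImplicit false
set_option linter.unusedSectionVars false

namespace Cfsg.Agent.GStructB.ManyPiClasses

open Cfsg.Agent.PiClasses Subgroup

universe u

variable {G : Type u} [Group G]

/-- The `π`-part of the order of a group. -/
noncomputable def part (π : Finset ℕ) (G : Type u) : ℕ :=
  π.prod fun r => r ^ (Nat.card G).factorization r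

theorem k_le_card [Finite G] {σ : Finset ℕ} (R : Finset G)
    (hR : ∀ x : G, IsPiElt σ x → ∃ a ∈ R, IsConj x a) : k σ G ≤ R.card := by
  classical
  have h : ∀ c : {c : ConjClasses G // ∀ x ∈ c.carrier, IsPiElt σ x},
      ∃ a : R, ConjClasses.mk (a : G) = c.1 := by
    intro c
    obtain ⟨x, hx⟩ := ConjClasses.mk_surjective c.1
    obtain ⟨a, ha, hxa⟩ := hR x (c.2 x (by rw [ConjClasses.mem_carrier_iff_mk_eq, hx]))
    exact ⟨⟨a, ha⟩, by rw [← hx, ConjClasses.mk_eq_mk_iff_isConj]; exact hxa.symm⟩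
  choose f hf using h
  rw [← Fintype.card_coe, ← Nat.card_eq_fintype_card]
  exact Nat.card_le_card_of_injective f fun c d e => Subtype.ext (by rw [← hf c, ← hf d, e])

/-- Exact representatives, each satisfying `Q` whenever some conjugate does. -/
theorem exists_reps [Finite G] (σ : Finset ℕ) (Q : G → Prop) :
    ∃ R : Finset G, R.card = k σ G ∧ (∀ a ∈ R, IsPiElt σ a) ∧
      (∀ x : G, IsPiElt σ x → ∃ a ∈ R, IsConj x a) ∧
      (∀ a ∈ R, ∀ b ∈ R, IsConj a b → a = b) ∧
      (∀ a ∈ R, Q a ∨ ∀ b : G, IsConj a b → ¬ Q b) := by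
  classical
  have hchoice : ∀ c : {c : ConjClasses G // ∀ x ∈ c.carrier, IsPiElt σ x},
      ∃ a : G, ConjClasses.mk a = c.1 ∧ (Q a ∨ ∀ b : G, IsConj a b → ¬ Q b) := by
    intro c
    by_cases h : ∃ a : G, ConjClasses.mk a = c.1 ∧ Q a
    · obtain ⟨a, ha, hQ⟩ := h
      exact ⟨a, ha, Or.inl hQ⟩
    · obtain ⟨a, ha⟩ := ConjClasses.mk_surjective c.1
      exact ⟨a, ha, Or.inr fun b hb hQ => h ⟨b, (ConjClasses.mk_eq_mk_iff_isConj.2 hb.symm).trans ha, hQ⟩⟩
  choose f hf hQ using hchoice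
  haveI := Fintype.ofFinite {c : ConjClasses G // ∀ x ∈ c.carrier, IsPiElt σ x}
  have hinj : Function.Injective f := fun c d e => Subtype.ext (by rw [← hf c, ← hf d, e])
  refine ⟨Finset.univ.image f, ?_, ?_, ?_, ?_, ?_⟩
  · rw [Finset.card_image_of_injective _ hinj, Finset.card_univ, k, Nat.card_eq_fintype_card]
  · intro a ha
    obtain ⟨c, -, rfl⟩ := Finset.mem_image.1 ha
    exact c.2 _ (by rw [ConjClasses.mem_carrier_iff_mk_eq, hf])
  · intro x hx
    let c : {c : ConjClasses G // ∀ x ∈ c.carrier, IsPiElt σ x} :=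
      ⟨ConjClasses.mk x, fun y hy => isPiElt_of_isConj
        (ConjClasses.mk_eq_mk_iff_isConj.1 (ConjClasses.mem_carrier_iff_mk_eq.1 hy)).symm hx⟩
    exact ⟨f c, Finset.mem_image_of_mem f (Finset.mem_univ c),
      ConjClasses.mk_eq_mk_iff_isConj.1 (hf c).symm⟩
  · intro a ha b hb hab
    obtain ⟨c, -, rfl⟩ := Finset.mem_image.1 ha
    obtain ⟨d, -, rfl⟩ := Finset.mem_image.1 hb
    rw [show c = d from Subtype.ext (by rw [← hf c, ← hf d]; exact ConjClasses.mk_eq_mk_iff_isConj.2 hab)]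
  · intro a ha
    obtain ⟨c, -, rfl⟩ := Finset.mem_image.1 ha
    exact hQ c

/-- `k_π(G)` is bounded by the sum of `k_τ` of the centralisers of the `σ`-representatives. -/
theorem k_le_sum [Finite G] {π σ τ : Finset ℕ}
    (hdec : ∀ x : G, IsPiElt π x → ∃ a b : G, x = a * b ∧ Commute a b ∧ IsPiElt σ a ∧ IsPiElt τ b)
    (R : Finset G) (hR : ∀ x : G, IsPiElt σ x → ∃ a ∈ R, IsConj x a) :
    k π G ≤ ∑ a ∈ R, k τ (centralizer ({a} : Set G)) := by
  classical
  let T := (a : R) × {d : ConjClasses (centralizer ({(a : G)} : Set G)) //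
      ∀ x ∈ d.carrier, IsPiElt τ x}
  have hT : Nat.card T = ∑ a ∈ R, k τ (centralizer ({a} : Set G)) := by
    rw [Nat.card_sigma]
    exact Finset.sum_coe_sort R fun a => k τ (centralizer ({a} : Set G))
  let f : T → ConjClasses G := fun z => ConjClasses.mk ((z.1 : G) * (z.2.1.out : G))
  have hmem : ∀ c : {c : ConjClasses G // ∀ x ∈ c.carrier, IsPiElt π x}, ∃ z : T, f z = c.1 := by
    intro c
    obtain ⟨x, hx⟩ := ConjClasses.mk_surjective c.1
    obtain ⟨a, b, hab, hcomm, ha, hb⟩ :=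
      hdec x (c.2 x (by rw [ConjClasses.mem_carrier_iff_mk_eq, hx]))
    obtain ⟨a', ha', haa⟩ := hR a ha
    obtain ⟨g, hg⟩ := isConj_iff.1 haa
    have hb' : g * b * g⁻¹ ∈ centralizer ({a'} : Set G) := by
      rw [mem_centralizer_singleton_iff, ← hg]
      show Commute (MulAut.conj g b) (MulAut.conj g a)
      exact hcomm.symm.map (MulAut.conj g).toMonoidHom
    have hb2 : IsPiElt τ (⟨_, hb'⟩ : centralizer ({a'} : Set G)) := by
      intro r hr hd
      rw [← Subgroup.orderOf_coe] at hd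
      exact isPiElt_of_isConj (isConj_iff.2 ⟨g, rfl⟩) hb r hr hd
    let D : {d : ConjClasses (centralizer ({a'} : Set G)) // ∀ x ∈ d.carrier, IsPiElt τ x} :=
      ⟨ConjClasses.mk ⟨_, hb'⟩, fun y hy => isPiElt_of_isConj
        (ConjClasses.mk_eq_mk_iff_isConj.1 (ConjClasses.mem_carrier_iff_mk_eq.1 hy)).symm hb2⟩
    refine ⟨⟨⟨a', ha'⟩, D⟩, ?_⟩
    obtain ⟨z, hz⟩ := isConj_iff.1 (ConjClasses.mk_eq_mk_iff_isConj.1
      (show ConjClasses.mk (⟨_, hb'⟩ : centralizer ({a'} : Set G)) = ConjClasses.mk D.1.out from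
        (Quotient.out_eq D.1).symm))
    show ConjClasses.mk (a' * (D.1.out : G)) = c.1
    rw [← hx, ConjClasses.mk_eq_mk_iff_isConj, ← hz, hab]
    refine (isConj_iff.2 ⟨(z : G) * g, ?_⟩).symm
    have hza : (z : G) * a' = a' * z := mem_centralizer_singleton_iff.1 z.2
    simp only [Subgroup.coe_mul, Subgroup.coe_inv]
    calc (z : G) * g * (a * b) * ((z : G) * g)⁻¹
        = (z : G) * (g * a * g⁻¹) * (g * b * g⁻¹) * (z : G)⁻¹ := by group
      _ = a' * ((z : G) * (g * b * g⁻¹) * (z : G)⁻¹) := by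
          rw [hg, hza]; simp only [mul_assoc]
  choose h hh using hmem
  rw [← hT]
  exact Nat.card_le_card_of_injective h fun c d e => Subtype.ext (by rw [← hh c, ← hh d, e])

theorem decomp_swap [Finite G] {π : Finset ℕ} {q : ℕ} (hq : q.Prime) {x : G} (hx : IsPiElt π x) :
    ∃ a b : G, x = a * b ∧ Commute a b ∧ IsPiElt (π.erase q) a ∧ IsPiElt ({q} : Finset ℕ) b := by
  obtain ⟨a, b, h1, h2, h3, h4⟩ := exists_decomp hq hx
  exact ⟨b, a, h1.trans h2.eq, h2.symm, h4, h3⟩

/-- The orbit bound for an element normalising a set which meets all classes of `σ`-elements. -/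
theorem mul_k_le [Finite G] {σ : Finset ℕ} (X : Finset G) {n : G}
    [DecidablePred fun x : G => Commute n x]
    {q : ℕ} (hX : ∀ x : G, IsPiElt σ x → ∃ a ∈ X, IsConj x a) (hn : ∀ x ∈ X, n * x * n⁻¹ ∈ X)
    (hq : ∀ r : ℕ, r.Prime → r ∣ orderOf n → q ≤ r) :
    q * k σ G ≤ X.card + (q - 1) * (X.filter fun x => Commute n x).card := by
  classical
  let C := X.image ConjClasses.mk
  have hk : k σ G ≤ C.card := by
    refine le_trans (Nat.card_le_card_of_injective
      (fun c : {c : ConjClasses G // ∀ x ∈ c.carrier, IsPiElt σ x} => (⟨c.1, ?_⟩ : C))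
      (fun c d e => by simpa [Subtype.ext_iff] using e)) (le_of_eq ?_)
    · obtain ⟨x, hx⟩ := ConjClasses.mk_surjective c.1
      obtain ⟨a, ha, hxa⟩ := hX x (c.2 x (by rw [ConjClasses.mem_carrier_iff_mk_eq, hx]))
      exact Finset.mem_image.2 ⟨a, ha, (ConjClasses.mk_eq_mk_iff_isConj.2 hxa.symm).trans hx⟩
    · rw [Nat.card_eq_fintype_card, Fintype.card_coe]
  refine (Nat.mul_le_mul_left q hk).trans ?_
  rcases Nat.eq_zero_or_pos q with rfl | hq0
  · simp
  have hpow : ∀ (i : ℕ), ∀ x ∈ X, n ^ i * x * (n ^ i)⁻¹ ∈ X := by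
    intro i
    induction i with
    | zero => intro x hx; simpa using hx
    | succ i ih =>
      intro x hx
      rw [show n ^ (i + 1) * x * (n ^ (i + 1))⁻¹ = n ^ i * (n * x * n⁻¹) * (n ^ i)⁻¹ by
        rw [pow_succ]; group]
      exact ih _ (hn x hx)
  have hfib : ∀ c ∈ C, q ≤ (X.filter fun x => ConjClasses.mk x = c).card +
      (q - 1) * ((X.filter fun x => Commute n x).filter fun x => ConjClasses.mk x = c).card := by
    intro c hc
    obtain ⟨x, hx, rfl⟩ := Finset.mem_image.1 hc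
    by_cases hfix : ∃ y ∈ X, Commute n y ∧ ConjClasses.mk y = ConjClasses.mk x
    · obtain ⟨y, hy, hny, hyx⟩ := hfix
      have h1 : 1 ≤ (X.filter fun z => ConjClasses.mk z = ConjClasses.mk x).card :=
        Finset.card_pos.2 ⟨y, Finset.mem_filter.2 ⟨hy, hyx⟩⟩
      have h2 : 1 ≤ ((X.filter fun z => Commute n z).filter fun z =>
          ConjClasses.mk z = ConjClasses.mk x).card :=
        Finset.card_pos.2 ⟨y, Finset.mem_filter.2 ⟨Finset.mem_filter.2 ⟨hy, hny⟩, hyx⟩⟩
      have h3 : q - 1 ≤ (q - 1) * ((X.filter fun z => Commute n z).filter fun z =>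
          ConjClasses.mk z = ConjClasses.mk x).card := Nat.le_mul_of_pos_right _ h2
      omega
    · refine le_trans ?_ (Nat.le_add_right _ _)
      have hnx : ¬ Commute n x := fun h => hfix ⟨x, hx, h, rfl⟩
      refine le_trans (le_of_eq (Finset.card_range q).symm)
        (Finset.card_le_card_of_injOn (fun i => n ^ i * x * (n ^ i)⁻¹) ?_ ?_)
      · intro i _
        exact Finset.mem_coe.2 (Finset.mem_filter.2 ⟨hpow i x hx,
          (ConjClasses.mk_eq_mk_iff_isConj.2 (isConj_iff.2 ⟨n ^ i, rfl⟩)).symm⟩)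
      · intro i₀ hi₀ j₀ hj₀ hij₀
        simp only [Finset.coe_range, Set.mem_Iio] at hi₀ hj₀
        by_contra hne
        obtain ⟨i, j, hi, hj, hlt, hij⟩ : ∃ i j, i < q ∧ j < q ∧ i < j ∧
            n ^ i * x * (n ^ i)⁻¹ = n ^ j * x * (n ^ j)⁻¹ := by
          rcases lt_or_gt_of_ne hne with h | h
          · exact ⟨i₀, j₀, hi₀, hj₀, h, hij₀⟩
          · exact ⟨j₀, i₀, hj₀, hi₀, h, hij₀.symm⟩
        obtain ⟨d, rfl⟩ : ∃ d, j = i + d := ⟨j - i, by omega⟩
        have hd : Commute (n ^ d) x := by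
          have h1 : n ^ d * x * (n ^ d)⁻¹ = x := by
            simp only [pow_add, mul_inv_rev] at hij
            have h2 := congrArg (fun z => (n ^ i)⁻¹ * z * n ^ i) hij
            simpa [mul_assoc] using h2.symm
          exact mul_inv_eq_iff_eq_mul.1 h1
        apply hnx
        have hcop : (orderOf n).Coprime d := Nat.coprime_of_dvd fun r hr h1 h2 => by
          have := hq r hr h1
          have := Nat.le_of_dvd (by omega) h2
          omega
        obtain ⟨e, he⟩ := exists_pow_eq_self_of_coprime hcop.symm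
        rw [← he]
        exact hd.pow_left e
  have h := Finset.sum_le_sum hfib
  rw [Finset.sum_const, smul_eq_mul, mul_comm, Finset.sum_add_distrib, ← Finset.mul_sum] at h
  refine h.trans (Nat.add_le_add ?_ (Nat.mul_le_mul_left _ ?_))
  · rw [← Finset.card_eq_sum_card_fiberwise fun x hx => Finset.mem_image_of_mem _ hx]
  · rw [← Finset.card_eq_sum_card_fiberwise fun x hx =>
      Finset.mem_image_of_mem _ (Finset.mem_filter.1 hx).1]

/-! ### Parts -/

variable {π : Finset ℕ}

theorem part_pos (hπ : ∀ r ∈ π, r.Prime) : 0 < part π G :=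
  Finset.prod_pos fun r hr => pow_pos (hπ r hr).pos _

theorem part_eq_mul {p : ℕ} (hp : p ∈ π) :
    part π G = p ^ (Nat.card G).factorization p * part (π.erase p) G :=
  (Finset.mul_prod_erase π (fun r => r ^ (Nat.card G).factorization r) hp).symm

theorem factorization_part (hπ : ∀ r ∈ π, r.Prime) (r : ℕ) :
    (part π G).factorization r = if r ∈ π then (Nat.card G).factorization r else 0 := by
  rw [part, Nat.factorization_prod fun q hq => pow_ne_zero _ (hπ q hq).ne_zero,
    Finset.sum_apply']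
  rw [Finset.sum_congr rfl (fun q hq => by
    rw [Nat.Prime.factorization_pow (hπ q hq), Finsupp.single_apply])]
  rw [Finset.sum_ite_eq']

theorem mem_of_dvd_part (hπ : ∀ r ∈ π, r.Prime) {r : ℕ} (hr : r.Prime) (h : r ∣ part π G) :
    r ∈ π := by
  have h1 := hr.factorization_pos_of_dvd (part_pos (G := G) hπ).ne' h
  rw [factorization_part hπ] at h1
  by_contra hn
  simp [hn] at h1

theorem part_dvd_card [Finite G] (hπ : ∀ r ∈ π, r.Prime) : part π G ∣ Nat.card G := by
  rw [← Nat.factorization_le_iff_dvd (part_pos hπ).ne' Nat.card_pos.ne']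
  intro r
  rw [factorization_part hπ]
  split_ifs <;> simp

theorem part_dvd [Finite G] (hπ : ∀ r ∈ π, r.Prime) (H : Subgroup G) : part π H ∣ part π G :=
  Finset.prod_dvd_prod_of_dvd _ _ fun r _ => pow_dvd_pow r
    ((Nat.factorization_le_iff_dvd Nat.card_pos.ne' Nat.card_pos.ne').2 H.card_subgroup_dvd_card r)

theorem part_eq_of_dvd [Finite G] (hπ : ∀ r ∈ π, r.Prime) (H : Subgroup G)
    (h : part π G ∣ Nat.card H) : part π H = part π G := by
  refine Nat.dvd_antisymm (part_dvd hπ H) ?_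
  rw [← Nat.factorization_le_iff_dvd (part_pos hπ).ne' (part_pos hπ).ne']
  intro r
  have h1 := (Nat.factorization_le_iff_dvd (part_pos hπ).ne' Nat.card_pos.ne').2 h r
  rw [factorization_part hπ] at h1 ⊢
  rw [factorization_part hπ]
  split_ifs with hr
  · rwa [if_pos hr] at h1
  · exact le_rfl

theorem mul_part_le [Finite G] (hπ : ∀ r ∈ π, r.Prime) {q : ℕ} (hq : ∀ r ∈ π, q ≤ r)
    (H : Subgroup G) (h : part π H ≠ part π G) : q * part π H ≤ part π G := by
  obtain ⟨t, ht⟩ := part_dvd hπ H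
  have ht1 : t ≠ 1 := by rintro rfl; exact h (by rw [ht, mul_one])
  obtain ⟨r, hr, hrt⟩ := Nat.exists_prime_and_dvd ht1
  have ht0 : t ≠ 0 := by rintro rfl; exact (part_pos (G := G) hπ).ne' (by simpa using ht)
  have := hq r (mem_of_dvd_part (G := G) hπ hr (hrt.trans ⟨part π H, by rw [ht, mul_comm]⟩))
  have := Nat.le_of_dvd (Nat.pos_of_ne_zero ht0) hrt
  rw [ht, mul_comm]
  exact Nat.mul_le_mul_left _ (by omega)

theorem coprime_index [Finite G] (hπ : ∀ r ∈ π, r.Prime) (A : Subgroup G)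
    (h : Nat.card A = part π G) : (Nat.card A).Coprime A.index := by
  refine Nat.coprime_of_dvd fun r hr h1 h2 => ?_
  have hmem := mem_of_dvd_part hπ hr (h ▸ h1)
  have e := congrArg (fun n => n.factorization r) A.card_mul_index
  simp only [Nat.factorization_mul Nat.card_pos.ne' index_ne_zero_of_finite, Finsupp.add_apply] at e
  rw [h, factorization_part hπ, if_pos hmem] at e
  have := hr.factorization_pos_of_dvd index_ne_zero_of_finite h2
  omega

theorem part_coprime (hπ : ∀ r ∈ π, r.Prime) {p : ℕ} (hp : p.Prime) (hpπ : p ∉ π) (e : ℕ) :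
    (p ^ e).Coprime (part π G) := by
  refine Nat.Coprime.pow_left _ (hp.coprime_iff_not_dvd.2 fun h => hpπ (mem_of_dvd_part hπ hp h))

theorem k_le_part [Finite G] (hπ : ∀ r ∈ π, r.Prime) : k π G ≤ part π G := k_le_prod π hπ G

/-- A `σ`-element has order dividing the `σ`-part. -/
theorem orderOf_dvd_part [Finite G] (hπ : ∀ r ∈ π, r.Prime) {x : G} (hx : IsPiElt π x) :
    orderOf x ∣ part π G := by
  rw [← Nat.factorization_le_iff_dvd (orderOf_pos x).ne' (part_pos hπ).ne']
  intro r
  rw [factorization_part hπ]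
  split_ifs with hr
  · exact (Nat.factorization_le_iff_dvd (orderOf_pos x).ne' Nat.card_pos.ne').2
      (orderOf_dvd_natCard x) r
  · by_contra hne
    have hpos : 0 < (orderOf x).factorization r := by omega
    have hrp : r.Prime := Nat.prime_of_mem_primeFactors (by
      rw [← Nat.support_factorization, Finsupp.mem_support_iff]; exact hpos.ne')
    exact hr (hx r hrp (Nat.dvd_of_factorization_pos hpos.ne'))

end Cfsg.Agent.GStructB.ManyPiClasses
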