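import Mathlib
import Cfsg.Agent.GStructB.ManyPiClasses.Count
import Cfsg.Agent.SolvStruct.WielandtHall

/-!
Covering sets and fixed-point bounds.
-/

set_option autoImplicit false
set_option linter.unusedSectionVars false

namespace Cfsg.Agent.GStructB.ManyPiClasses

open Cfsg.Agent.PiClasses Subgroup
open scoped Pointwise

universe u

variable {G : Type u} [Group G] [Finite G]

/-- There are a Sylow `p`-subgroup and an abelian Hall `μ`-subgroup which centralise each other. -/
def HasPair (p : ℕ) (μ : Finset ℕ) (G : Type u) [Group G] : Prop :=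
  ∃ (P : Sylow p G) (A : Subgroup G), IsMulCommutative A ∧ Nat.card A = part μ G ∧
    A ≤ centralizer ((P : Subgroup G) : Set G)

theorem le_centralizer_swap {H K : Subgroup G} (h : H ≤ centralizer (K : Set G)) :
    K ≤ centralizer (H : Set G) := fun x hx => by
  rw [mem_centralizer_iff]
  intro y hy
  exact (mem_centralizer_iff.1 (h hy) x hx).symm

theorem exists_conj_mem_sylow {p : ℕ} [Fact p.Prime] (S : Sylow p G) {x : G}
    (hx : IsPiElt ({p} : Finset ℕ) x) : ∃ a ∈ (S : Subgroup G), IsConj x a := by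
  obtain ⟨e, he⟩ := (isPiElt_iff_pow Fact.out x).1 hx
  obtain ⟨Q, hQ⟩ := (IsPGroup.of_card (p := p) (n := e)
    (by rw [Nat.card_zpowers, he]) : IsPGroup p (zpowers x)).exists_le_sylow
  obtain ⟨g, hg⟩ := MulAction.exists_smul_eq G Q S
  refine ⟨g * x * g⁻¹, ?_, isConj_iff.2 ⟨g, rfl⟩⟩
  rw [← hg, Sylow.coe_subgroup_smul]
  exact Subgroup.smul_mem_pointwise_smul x (MulAut.conj g) _ (hQ (mem_zpowers x))

theorem exists_conj_mem_hall {μ : Finset ℕ} (hμ : ∀ r ∈ μ, r.Prime) (A : Subgroup G)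
    [IsMulCommutative A] (hA : Nat.card A = part μ G) {x : G} (hx : IsPiElt μ x) :
    ∃ a ∈ A, IsConj x a := by
  have hnil : Group.IsNilpotent A := by
    open scoped IsMulCommutative in infer_instance
  obtain ⟨g, hg⟩ := SolvStruct.WielandtHall.le_conj_nilpotent_hall (Nat.card G) G A rfl hnil
    (coprime_index hμ A hA) (zpowers x) (fun q _ hd => by
      rw [Nat.card_zpowers] at hd
      exact hA ▸ hd.trans (orderOf_dvd_part hμ hx))
  have h := hg (mem_zpowers x)
  rw [Subgroup.mem_pointwise_smul_iff_inv_smul_mem, ← map_inv, MulAut.smul_def,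
    MulAut.conj_apply, inv_inv] at h
  exact ⟨_, h, isConj_iff.2 ⟨g⁻¹, by rw [inv_inv]⟩⟩

/-- The orbit bound on a normalised subgroup. -/
theorem mul_k_le_subgroup {σ : Finset ℕ} (H : Subgroup G) {n : G}
    (hn : n ∈ normalizer (H : Set G)) {q : ℕ}
    (hH : ∀ x : G, IsPiElt σ x → ∃ a ∈ H, IsConj x a)
    (hq : ∀ r : ℕ, r.Prime → r ∣ orderOf n → q ≤ r) :
    q * k σ G ≤ Nat.card H + (q - 1) * Nat.card ↥(H ⊓ centralizer ({n} : Set G)) := by
  classical
  haveI := Fintype.ofFinite G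
  have hX : ∀ x : G, x ∈ (Finset.univ.filter fun y => y ∈ H) ↔ x ∈ H := fun x => by simp
  refine (mul_k_le (Finset.univ.filter fun y => y ∈ H) (n := n) (q := q) ?_ ?_ hq).trans
    (Nat.add_le_add (le_of_eq ?_) (Nat.mul_le_mul_left _ (le_of_eq ?_)))
  · intro x hx
    obtain ⟨a, ha, hxa⟩ := hH x hx
    exact ⟨a, (hX a).2 ha, hxa⟩
  · intro x hx
    exact (hX _).2 ((mem_normalizer_iff.1 hn x).1 ((hX x).1 hx))
  · rw [Nat.card_eq_fintype_card, Fintype.card_subtype]
  · rw [Nat.card_eq_fintype_card, Fintype.card_subtype, Finset.filter_filter]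
    refine congrArg Finset.card (Finset.filter_congr fun x _ => ?_)
    rw [mem_inf, mem_centralizer_singleton_iff]
    exact and_congr Iff.rfl ⟨fun h => h.eq.symm, fun h => h.symm⟩

theorem inf_centralizer_ne {H : Subgroup G} {n : G} (hn : n ∉ centralizer (H : Set G)) :
    H ⊓ centralizer ({n} : Set G) ≠ H := fun e => hn (mem_centralizer_iff.2 fun y hy => by
  have h : y ∈ H ⊓ centralizer ({n} : Set G) := e.symm ▸ (hy : y ∈ H)
  exact mem_centralizer_singleton_iff.1 (mem_inf.1 h).2)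

theorem mul_fixed_le {H : Subgroup G} {n : G} (hn : n ∉ centralizer (H : Set G)) {q : ℕ}
    (hq : ∀ r : ℕ, r.Prime → r ∣ Nat.card H → q ≤ r) :
    q * Nat.card ↥(H ⊓ centralizer ({n} : Set G)) ≤ Nat.card H := by
  set F := H ⊓ centralizer ({n} : Set G) with hF
  obtain ⟨t, ht⟩ := Subgroup.card_dvd_of_le (inf_le_left : F ≤ H)
  have ht1 : t ≠ 1 := fun e => inf_centralizer_ne hn
    (eq_of_le_of_card_ge inf_le_left (by rw [← hF, ht, e, mul_one]))
  obtain ⟨r, hr, hrt⟩ := Nat.exists_prime_and_dvd ht1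
  have ht0 : t ≠ 0 := fun e => (Nat.card_pos (α := H)).ne' (by rw [ht, e, mul_zero])
  have := hq r hr (hrt.trans ⟨Nat.card F, by rw [ht, mul_comm]⟩)
  have := Nat.le_of_dvd (Nat.pos_of_ne_zero ht0) hrt
  rw [ht, mul_comm]
  exact Nat.mul_le_mul_left _ (by omega)

/-- An element whose prime divisors exceed `p` fixes at most `|H| / p²` points of a `p`-group
which it does not centralise. -/
theorem sq_mul_fixed_le {p : ℕ} [Fact p.Prime] {H : Subgroup G} (hH : IsPGroup p H) {n : G}
    (hn : n ∈ normalizer (H : Set G)) (hnc : n ∉ centralizer (H : Set G))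
    (hbig : ∀ r : ℕ, r.Prime → r ∣ orderOf n → p < r) :
    p ^ 2 * Nat.card ↥(H ⊓ centralizer ({n} : Set G)) ≤ Nat.card H := by
  have hp : p.Prime := Fact.out
  set F := H ⊓ centralizer ({n} : Set G) with hF
  set F' := F.subgroupOf H with hF'
  have hcard : Nat.card F' = Nat.card F :=
    Nat.card_congr (subgroupOfEquivOfLe (inf_le_left : F ≤ H)).toEquiv
  obtain ⟨e, he⟩ := hH.index F'
  rw [← hcard, ← F'.index_mul_card, he]
  refine Nat.mul_le_mul_right _ (Nat.pow_le_pow_right hp.pos ?_)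
  by_contra hlt
  -- the index is at most `p`, so two powers of `n` move a point into the same coset
  obtain ⟨u, huH, hu⟩ : ∃ u ∈ H, ¬ Commute n u := by
    by_contra hall
    push Not at hall
    exact hnc (mem_centralizer_iff.2 fun y hy => (hall y hy).eq.symm)
  have hpow : ∀ i : ℕ, n ^ i * u * (n ^ i)⁻¹ ∈ H := fun i =>
    (mem_normalizer_iff.1 ((normalizer (H : Set G)).pow_mem hn i) u).1 huH
  let g : Fin (p + 1) → H ⧸ F' := fun i => QuotientGroup.mk ⟨n ^ (i : ℕ) * u * (n ^ (i : ℕ))⁻¹, hpow _⟩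
  obtain ⟨i, j, hij, hg⟩ : ∃ i j, i ≠ j ∧ g i = g j := by
    by_contra hinj
    push Not at hinj
    have h1 := Nat.card_le_card_of_injective g fun a b hab => by
      by_contra hne; exact hinj a b hne hab
    rw [Nat.card_fin, ← index_eq_card, he] at h1
    have h2 : p ^ e ≤ p := le_trans (Nat.pow_le_pow_right hp.pos (by omega : e ≤ 1)) (pow_one p).le
    omega
  obtain ⟨a, d, hd0, hdp, hmem⟩ : ∃ a d : ℕ, 0 < d ∧ d ≤ p ∧
      (n ^ a * u * (n ^ a)⁻¹)⁻¹ * (n ^ (a + d) * u * (n ^ (a + d))⁻¹) ∈ F := by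
    have key : ∀ a b : Fin (p + 1), (a : ℕ) < b → g a = g b →
        (n ^ (a : ℕ) * u * (n ^ (a : ℕ))⁻¹)⁻¹ * (n ^ (b : ℕ) * u * (n ^ (b : ℕ))⁻¹) ∈ F := by
      intro a b _ h
      have h1 := QuotientGroup.eq.1 h
      rw [hF', mem_subgroupOf] at h1
      simpa using h1
    rcases lt_or_gt_of_ne (fun h => hij (Fin.ext h) : (i : ℕ) ≠ j) with h | h
    · refine ⟨i, j - i, by omega, by omega, ?_⟩
      rw [Nat.add_sub_cancel' h.le]
      exact key i j h hg
    · refine ⟨j, i - j, by omega, by omega, ?_⟩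
      rw [Nat.add_sub_cancel' h.le]
      exact key j i h hg.symm
  set v := n ^ a * u * (n ^ a)⁻¹ with hv
  set c := v⁻¹ * (n ^ (a + d) * u * (n ^ (a + d))⁻¹) with hc
  set m := n ^ d with hm
  have hcn : Commute n c := (mem_centralizer_singleton_iff.1 (mem_inf.1 hmem).2).symm
  have hcm : Commute m c := hcn.pow_left d
  have hmv : m * v * m⁻¹ = v * c := by
    rw [hc, hv, hm, add_comm a d, pow_add]; group
  have hiter : ∀ k : ℕ, m ^ k * v * (m ^ k)⁻¹ = v * c ^ k := by
    intro k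
    induction k with
    | zero => simp
    | succ k ih =>
      calc m ^ (k + 1) * v * (m ^ (k + 1))⁻¹ = m * (m ^ k * v * (m ^ k)⁻¹) * m⁻¹ := by
            rw [pow_succ']; group
        _ = m * (v * c ^ k) * m⁻¹ := by rw [ih]
        _ = (m * v * m⁻¹) * (m * c ^ k * m⁻¹) := by group
        _ = v * c * c ^ k := by rw [hmv, (hcm.pow_right k).eq, mul_inv_cancel_right]
        _ = v * c ^ (k + 1) := by rw [pow_succ', mul_assoc]
  have hco : c ^ orderOf m = 1 := by
    have h := hiter (orderOf m)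
    rw [pow_orderOf_eq_one, one_mul, inv_one, mul_one, left_eq_mul] at h
    exact h
  have hc1 : c = 1 := by
    obtain ⟨s, hs⟩ := IsPGroup.iff_orderOf.1 hH ⟨c, (mem_inf.1 hmem).1⟩
    rw [Subgroup.orderOf_mk] at hs
    rw [← orderOf_eq_one_iff]
    refine Nat.eq_one_of_dvd_coprimes (a := p ^ s) (b := orderOf m) ?_ (hs ▸ dvd_rfl)
      (orderOf_dvd_of_pow_eq_one hco)
    refine Nat.Coprime.pow_left _ ((hp.coprime_iff_not_dvd).2 fun h => ?_)
    exact lt_irrefl p (hbig p hp (h.trans (orderOf_pow_dvd d)))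
  rw [hc1, mul_one] at hmv
  have hmu : Commute m u := by
    have h1 : Commute m v := mul_inv_eq_iff_eq_mul.1 hmv
    have h2 : Commute m (n ^ a) := (Commute.refl n).pow_pow d a
    have h3 : u = (n ^ a)⁻¹ * v * n ^ a := by rw [hv]; group
    rw [h3]
    exact (h2.inv_right.mul_right h1).mul_right h2
  apply hu
  have hcop : (orderOf n).Coprime d := Nat.coprime_of_dvd fun r hr h1 h2 => by
    have := hbig r hr h1
    have := Nat.le_of_dvd hd0 h2
    omega
  obtain ⟨k, hk⟩ := exists_pow_eq_self_of_coprime hcop.symm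
  rw [← hk]
  exact hmu.pow_left k

end Cfsg.Agent.GStructB.ManyPiClasses
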