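import Mathlib
import Cfsg.Agent.GStructB.ManyPiClasses.Tools
import Cfsg.Agent.Lib.Transfer.NilpotentHall

/-!
An abelian Hall subgroup which is central in its normaliser.
-/

set_option autoImplicit false
set_option linter.unusedSectionVars false

namespace Cfsg.Agent.GStructB.ManyPiClasses

open Cfsg.Agent.PiClasses Subgroup
open scoped IsMulCommutative

universe u

variable {G : Type u} [Group G] [Finite G]

/-- Such a Hall subgroup has a normal complement with abelian factor group. -/
theorem exists_normal_complement (A : Subgroup G) [IsMulCommutative A]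
    (hcop : (Nat.card A).Coprime A.index)
    (hN : normalizer (A : Set G) ≤ centralizer (A : Set G)) :
    ∃ K : Subgroup G, K.Normal ∧ K.index = Nat.card A ∧ (Nat.card K).Coprime (Nat.card A) ∧
      ∀ a b : G, a * b * a⁻¹ * b⁻¹ ∈ K := by
  haveI : A.FiniteIndex := inferInstance
  set f : G →* A := MonoidHom.transfer (MonoidHom.id A) with hf
  have hval : ∀ a : A, f (a : G) = a ^ A.index := by
    intro a
    have key : ∀ (k : ℕ) (g₀ : G), g₀⁻¹ * (a : G) ^ k * g₀ ∈ A →
        g₀⁻¹ * (a : G) ^ k * g₀ = (a : G) ^ k := by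
      intro k g₀ hk
      obtain ⟨n, hn, he⟩ := Transfer.NilpotentHall.exists_normalizer_conj_of_abelian_hall hcop
        (A.pow_mem a.2 k) (g := g₀⁻¹) (by rwa [inv_inv])
      rw [inv_inv] at he
      rw [← he, ← mem_centralizer_iff.1 (hN hn) _ (A.pow_mem a.2 k), mul_inv_cancel_right]
    rw [hf, MonoidHom.transfer_eq_pow (MonoidHom.id A) (a : G) key]
    exact Subtype.ext rfl
  have hsurj : Function.Surjective f := by
    intro b
    obtain ⟨b', hb'⟩ := (powCoprime hcop).surjective b
    exact ⟨(b' : G), (hval b').trans hb'⟩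
  refine ⟨f.ker, MonoidHom.normal_ker f, ?_, ?_, fun a b => ?_⟩
  · rw [index_ker, MonoidHom.range_eq_top.2 hsurj, card_top]
  · have h1 : f.ker.index = Nat.card A := by
      rw [index_ker, MonoidHom.range_eq_top.2 hsurj, card_top]
    have h2 := f.ker.card_mul_index
    rw [h1, ← A.card_mul_index, mul_comm] at h2
    rw [Nat.eq_of_mul_eq_mul_left Nat.card_pos h2]
    exact hcop.symm
  · rw [MonoidHom.mem_ker, map_mul, map_mul, map_mul, map_inv, map_inv]
    simp [mul_comm (f a) (f b)]

/-- Subgroups of order divisible by `|A|` contain abelian subgroups of that order. -/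
theorem exists_abelian_of_dvd {a : ℕ} {K : Subgroup G} [K.Normal] (hidx : K.index = a)
    (hcop : (Nat.card K).Coprime a) (hab : ∀ x y : G, x * y * x⁻¹ * y⁻¹ ∈ K)
    (C : Subgroup G) (hC : a ∣ Nat.card C) :
    ∃ B : Subgroup G, B ≤ C ∧ IsMulCommutative B ∧ Nat.card B = a := by
  set N := K.subgroupOf C with hN
  have hcardN : Nat.card N ∣ Nat.card K := by
    rw [← card_map_of_injective C.subtype_injective, hN, subgroupOf_map_subtype]
    exact card_dvd_of_le inf_le_left
  have hNidx : N.index = a := by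
    refine Nat.dvd_antisymm (hidx ▸ relIndex_dvd_index_of_normal K C) ?_
    rw [← N.card_mul_index] at hC
    exact (hcop.coprime_dvd_left hcardN).symm.dvd_of_dvd_mul_left hC
  obtain ⟨L, hL⟩ := exists_right_complement'_of_coprime (N := N)
    (by rw [hNidx]; exact hcop.coprime_dvd_left hcardN)
  set B := L.map C.subtype with hB
  have hBcard : Nat.card B = a := by
    rw [hB, card_map_of_injective C.subtype_injective, ← hNidx, hL.symm.index_eq_card]
  have hdisj : K ⊓ B = ⊥ := inf_eq_bot_of_coprime (hBcard.symm ▸ hcop)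
  refine ⟨B, map_subtype_le _, ⟨⟨fun x y => Subtype.ext ?_⟩⟩, hBcard⟩
  have h : (x : G) * y * (x : G)⁻¹ * (y : G)⁻¹ ∈ K ⊓ B :=
    ⟨hab x y, B.mul_mem (B.mul_mem (B.mul_mem x.2 y.2) (B.inv_mem x.2)) (B.inv_mem y.2)⟩
  rw [hdisj, mem_bot, mul_inv_eq_one, mul_inv_eq_iff_eq_mul] at h
  simpa using h

theorem caseA {π : Finset ℕ} (hπ : ∀ s ∈ π, s.Prime) {p r : ℕ} [Fact p.Prime] (hpπ : p ∈ π)
    (hr : ∀ s ∈ π.erase p, r ≤ s) (hpr : p < r) (hno : ¬ HasPair p (π.erase p) G)
    (A : Subgroup G) [IsMulCommutative A] (hA : Nat.card A = part (π.erase p) G)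
    (hN : normalizer (A : Set G) ≤ centralizer (A : Set G))
    (hC : p * p ^ (Nat.card (centralizer (A : Set G))).factorization p ≤
      p ^ (Nat.card G).factorization p) :
    p * k π G ≤ part π G := by
  classical
  have hp : p.Prime := Fact.out
  set μ := π.erase p with hμdef
  have hμ : ∀ s ∈ μ, s.Prime := fun s hs => hπ s (Finset.mem_of_mem_erase hs)
  obtain ⟨K, hKn, hKidx, hKcop, hKab⟩ := exists_normal_complement A (coprime_index hμ A hA) hN
  obtain ⟨P⟩ : Nonempty (Sylow p G) := inferInstance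
  have hcardP := P.card_eq_multiplicity
  have hpA : (Nat.card A).Coprime p := by
    rw [hA]
    have := part_coprime (G := G) hμ hp (Finset.notMem_erase p π) 1
    rw [pow_one] at this
    exact this.symm
  have hPK : (P : Subgroup G) ≤ K := by
    intro x hx
    obtain ⟨e, he⟩ := IsPGroup.iff_orderOf.1 P.2 ⟨x, hx⟩
    rw [Subgroup.orderOf_mk] at he
    rw [← QuotientGroup.eq_one_iff (N := K), ← orderOf_eq_one_iff]
    refine Nat.eq_one_of_dvd_coprimes (hpA.pow_right e) ?_
      (he ▸ orderOf_map_dvd (QuotientGroup.mk' K) x)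
    rw [← hKidx]
    exact orderOf_dvd_natCard _
  have hNP : Nat.card A ∣ Nat.card (normalizer ((P : Subgroup G) : Set G)) := by
    have h1 : normalizer ((P : Subgroup G) : Set G) ⊔ K = ⊤ := Sylow.normalizer_sup_eq_top' P hPK
    have h2 := relIndex_sup_right (normalizer ((P : Subgroup G) : Set G)) K
    rw [h1, relIndex_top_right, hKidx] at h2
    rw [h2]
    exact relIndex_dvd_card K _
  obtain ⟨B, hBN, hBc, hBcard⟩ := exists_abelian_of_dvd hKidx hKcop hKab _ hNP
  obtain ⟨n, hnB, hnC⟩ : ∃ n ∈ B, n ∉ centralizer ((P : Subgroup G) : Set G) := by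
    by_contra h
    push Not at h
    exact hno ⟨P, B, hBc, hBcard.trans hA, h⟩
  have hnbig : ∀ s : ℕ, s.Prime → s ∣ orderOf n → r ≤ s := fun s hs hd =>
    hr s (mem_of_dvd_part hμ hs
      ((hBcard.trans hA) ▸ hd.trans (B.orderOf_dvd_natCard hnB)))
  set o := Nat.card (P : Subgroup G) with ho
  set f := Nat.card ↥((P : Subgroup G) ⊓ centralizer ({n} : Set G))
  have hkp : r * k ({p} : Finset ℕ) G ≤ o + (r - 1) * f :=
    mul_k_le_subgroup (P : Subgroup G) (hBN hnB)
      (fun x hx => exists_conj_mem_sylow P hx) hnbig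
  have hf : p ^ 2 * f ≤ o :=
    sq_mul_fixed_le P.2 (hBN hnB) hnC fun s hs hd => lt_of_lt_of_le hpr (hnbig s hs hd)
  -- representatives of the classes of `p`-elements
  obtain ⟨R, hRcard, hRp, hRcov, hRex, -⟩ := exists_reps (G := G) ({p} : Finset ℕ) (fun _ => True)
  let good := R.filter fun x => part μ (centralizer ({x} : Set G)) = part μ G
  obtain ⟨S⟩ : Nonempty (Sylow p (centralizer (A : Set G))) := inferInstance
  have hgood : ∀ x ∈ good, ∃ s : (S : Subgroup (centralizer (A : Set G))), IsConj x ((s : centralizer (A : Set G)) : G) := by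
    intro x hx
    obtain ⟨hxR, hxg⟩ := Finset.mem_filter.1 hx
    have hdvd : Nat.card A ∣ Nat.card (centralizer ({x} : Set G)) := by
      rw [hA, ← hxg]; exact part_dvd_card hμ
    obtain ⟨D, hDC, hDc, hDcard⟩ := exists_abelian_of_dvd hKidx hKcop hKab _ hdvd
    haveI := hDc
    obtain ⟨g, hg⟩ := Transfer.NilpotentHall.exists_conj_of_nilpotent_hall (H := D) (K := A)
      inferInstance inferInstance hDcard (coprime_index hμ D (hDcard.trans hA))
    have hgx : g * x * g⁻¹ ∈ centralizer (A : Set G) := by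
      rw [mem_centralizer_iff]
      intro y hy
      rw [← hg] at hy
      obtain ⟨d, hd, rfl⟩ := hy
      have h1 := mem_centralizer_singleton_iff.1 (hDC hd)
      show g * d * g⁻¹ * (g * x * g⁻¹) = g * x * g⁻¹ * (g * d * g⁻¹)
      calc g * d * g⁻¹ * (g * x * g⁻¹) = g * (d * x) * g⁻¹ := by group
        _ = g * (x * d) * g⁻¹ := by rw [h1]
        _ = g * x * g⁻¹ * (g * d * g⁻¹) := by group
    have hpe : IsPiElt ({p} : Finset ℕ) (⟨_, hgx⟩ : centralizer (A : Set G)) := by
      intro s hs hd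
      rw [← Subgroup.orderOf_coe] at hd
      exact isPiElt_of_isConj (isConj_iff.2 ⟨g, rfl⟩) (hRp x hxR) s hs hd
    obtain ⟨s, hs, hsc⟩ := exists_conj_mem_sylow S hpe
    obtain ⟨c, hc⟩ := isConj_iff.1 hsc
    refine ⟨⟨s, hs⟩, isConj_iff.2 ⟨(c : G) * g, ?_⟩⟩
    have h1 := congrArg Subtype.val hc
    simp only [Subgroup.coe_mul, Subgroup.coe_inv] at h1
    rw [← h1]; group
  choose s hs using hgood
  have hgS : good.card ≤ Nat.card (S : Subgroup (centralizer (A : Set G))) := by
    rw [← Fintype.card_coe, ← Nat.card_eq_fintype_card]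
    refine Nat.card_le_card_of_injective (fun x : good => s x.1 x.2) fun x y e => Subtype.ext ?_
    have e' : s x.1 x.2 = s y.1 y.2 := e
    refine hRex _ (Finset.mem_filter.1 x.2).1 _ (Finset.mem_filter.1 y.2).1 ?_
    exact (hs x.1 x.2).trans (e' ▸ (hs y.1 y.2).symm)
  rw [S.card_eq_multiplicity] at hgS
  have hg : p * good.card ≤ o := by
    rw [hcardP]
    exact (Nat.mul_le_mul_left p hgS).trans hC
  set a := part μ G with ha
  have hk : r * k π G ≤ a * (k ({p} : Finset ℕ) G + (r - 1) * good.card) := by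
    have h1 := k_le_sum (fun x hx => exists_decomp hp hx) (π := π) R hRcov
    rw [← hμdef] at h1
    refine (Nat.mul_le_mul_left r h1).trans ?_
    rw [Finset.mul_sum]
    have h2 : ∀ x ∈ R, r * k μ (centralizer ({x} : Set G)) ≤
        a + (r - 1) * a * (if part μ (centralizer ({x} : Set G)) = a then 1 else 0) := by
      intro x _
      split_ifs with h
      · refine (Nat.mul_le_mul_left r ((k_le_part hμ).trans h.le)).trans (le_of_eq ?_)
        obtain ⟨r', rfl⟩ : ∃ r', r = r' + 1 := ⟨r - 1, by omega⟩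
        rw [Nat.add_sub_cancel]; ring
      · rw [mul_zero, add_zero]
        exact (Nat.mul_le_mul_left r (k_le_part hμ)).trans (mul_part_le hμ hr _ h)
    refine (Finset.sum_le_sum h2).trans (le_of_eq ?_)
    rw [Finset.sum_add_distrib, Finset.sum_const, smul_eq_mul, hRcard, ← Finset.mul_sum,
      Finset.sum_boole, Nat.cast_id]
    ring
  rw [part_eq_mul hpπ, ← hμdef, ← hcardP]
  obtain ⟨t, rfl⟩ : ∃ t, r = p + 1 + t := ⟨r - (p + 1), by omega⟩
  rw [show p + 1 + t - 1 = p + t by omega] at hk hkp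
  have key : (p + 1 + t) * (p + 1 + t) * (p * (p * k π G)) ≤ (p + 1 + t) * (p + 1 + t) * (p * (o * a)) :=
    calc (p + 1 + t) * (p + 1 + t) * (p * (p * k π G))
        = p ^ 2 * (p + 1 + t) * ((p + 1 + t) * k π G) := by ring
      _ ≤ p ^ 2 * (p + 1 + t) * (a * (k ({p} : Finset ℕ) G + (p + t) * good.card)) :=
          Nat.mul_le_mul_left _ hk
      _ = a * (p ^ 2 * ((p + 1 + t) * k ({p} : Finset ℕ) G) +
          (p + t) * (p + 1 + t) * p * (p * good.card)) := by ring
      _ ≤ a * (p ^ 2 * (o + (p + t) * f) + (p + t) * (p + 1 + t) * p * o) := by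
          gcongr
      _ = a * (p ^ 2 * o + (p + t) * (p ^ 2 * f) + (p + t) * (p + 1 + t) * p * o) := by ring
      _ ≤ a * (p ^ 2 * o + (p + t) * o + (p + t) * (p + 1 + t) * p * o) := by gcongr
      _ = a * o * (p ^ 2 + p + t + (p + t) * (p + 1 + t) * p) := by ring
      _ ≤ a * o * (p ^ 2 + p + t * p + (p + t) * (p + 1 + t) * p) := by
          gcongr; exact Nat.le_mul_of_pos_right t hp.pos
      _ = _ := by ring
  exact Nat.le_of_mul_le_mul_left (Nat.le_of_mul_le_mul_left key (by positivity)) hp.pos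

end Cfsg.Agent.GStructB.ManyPiClasses
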