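import Mathlib
import Cfsg.Agent.GStructB.ManyPiClasses.Tools
import Cfsg.Agent.GStructB.ClassPrimes
import Cfsg.Agent.Lib.Transfer.NormalPComplement
import Cfsg.Agent.Lib.Transfer.NilpotentHall

/-!
An abelian Hall subgroup which is not central in its normaliser.
-/

set_option autoImplicit false
set_option linter.unusedSectionVars false

namespace Cfsg.Agent.GStructB.ManyPiClasses

open Cfsg.Agent.PiClasses Subgroup
open scoped Pointwise IsMulCommutative

universe u

variable {G : Type u} [Group G] [Finite G] {p : ℕ} [Fact p.Prime]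

theorem k_singleton_le_sylow (P : Sylow p G) (H : Subgroup G) :
    k ({p} : Finset ℕ) H ≤ Nat.card (P : Subgroup G) := by
  refine (k_singleton_le (G := H)).trans ?_
  rw [P.card_eq_multiplicity]
  exact Nat.pow_le_pow_right (Fact.out : p.Prime).pos
    ((Nat.factorization_le_iff_dvd Nat.card_pos.ne' Nat.card_pos.ne').2 H.card_subgroup_dvd_card p)

/-- The members of `T` conjugate to `y` in the whole group. -/
noncomputable def fibre {H : Subgroup G} (T : Finset H) (y : G) : Finset H :=
  @Finset.filter _ (fun t : H => IsConj (t : G) y) (Classical.decPred _) T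

theorem mem_fibre {H : Subgroup G} {T : Finset H} {y : G} {t : H} :
    t ∈ fibre T y ↔ t ∈ T ∧ IsConj (t : G) y := by
  unfold fibre
  exact @Finset.mem_filter _ _ (Classical.decPred _) _ _

/-- Weighted count over classes of `μ`-elements, measured by the classes of `C(P)`. -/
theorem weighted (π : Finset ℕ) (P : Sylow p G) (e : ℕ)
    (hgood : ∀ (y : centralizer ((P : Subgroup G) : Set G))
      (T : Finset (centralizer ((P : Subgroup G) : Set G))),
      IsPiElt (π.erase p) (y : G) →
      (∀ x, IsPiElt (π.erase p) x → ∃ t ∈ T, IsConj x t) →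
      e * p * k ({p} : Finset ℕ) (centralizer ({(y : G)} : Set G)) ≤
        e * Nat.card (P : Subgroup G) + (p - 1) * Nat.card (P : Subgroup G) *
          (fibre T (y : G)).card) :
    e * p * k π G ≤ e * Nat.card (P : Subgroup G) * k (π.erase p) G +
      (p - 1) * Nat.card (P : Subgroup G) * k (π.erase p) (centralizer ((P : Subgroup G) : Set G)) := by
  classical
  set μ := π.erase p
  set CP := centralizer ((P : Subgroup G) : Set G)
  obtain ⟨R, hRcard, hRμ, hRcov, hRex, hRQ⟩ := exists_reps (G := G) μ (fun y => y ∈ CP)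
  obtain ⟨T, hTcard, -, hTcov, -, -⟩ := exists_reps (G := CP) μ (fun _ => True)
  set o := Nat.card (P : Subgroup G) with ho
  let fib : G → Finset CP := fun y => fibre T y
  have h1 := k_le_sum (fun x hx => decomp_swap (Fact.out : p.Prime) hx) (π := π) R hRcov
  have h2 : ∀ y ∈ R, e * p * k ({p} : Finset ℕ) (centralizer ({y} : Set G)) ≤
      e * o + (p - 1) * o * (fib y).card := by
    intro y hy
    rcases hRQ y hy with hyC | hyC
    · exact hgood ⟨y, hyC⟩ T (hRμ y hy) hTcov
    · refine le_trans ?_ (Nat.le_add_right _ _)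
      rw [mul_assoc]
      refine Nat.mul_le_mul_left _ ?_
      set C := centralizer ({y} : Set G)
      have hd : p ∣ C.index := by
        by_contra hnd
        obtain ⟨g, hg⟩ := ClassPrimes.exists_conj_mem_centralizer P hnd
        exact hyC _ (isConj_iff.2 ⟨g⁻¹, by rw [inv_inv]⟩) hg
      refine (Nat.mul_le_mul_left p (k_singleton_le (G := C))).trans ?_
      rw [ho, P.card_eq_multiplicity, ← pow_succ']
      refine Nat.pow_le_pow_right (Fact.out : p.Prime).pos ?_
      rw [← C.card_mul_index, Nat.factorization_mul Nat.card_pos.ne' index_ne_zero_of_finite,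
        Finsupp.add_apply]
      have := (Fact.out : p.Prime).factorization_pos_of_dvd index_ne_zero_of_finite hd
      omega
  refine (Nat.mul_le_mul_left (e * p) h1).trans ?_
  rw [Finset.mul_sum]
  refine (Finset.sum_le_sum h2).trans ?_
  rw [Finset.sum_add_distrib, Finset.sum_const, smul_eq_mul, hRcard, ← Finset.mul_sum,
    mul_comm (k μ G)]
  refine Nat.add_le_add_left (Nat.mul_le_mul_left _ ?_) _
  rw [← hTcard, ← Finset.card_biUnion]
  · exact Finset.card_le_card (Finset.biUnion_subset.2 fun y _ t ht => (mem_fibre.1 ht).1)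
  · intro y hy z hz hne
    rw [Function.onFun, Finset.disjoint_left]
    intro t hty htz
    exact hne (hRex y hy z hz ((mem_fibre.1 hty).2.symm.trans (mem_fibre.1 htz).2))

theorem one_le_fib {π : Finset ℕ} {P : Sylow p G} {y : centralizer ((P : Subgroup G) : Set G)}
    {T : Finset (centralizer ((P : Subgroup G) : Set G))} (hy : IsPiElt π (y : G))
    (hT : ∀ x, IsPiElt π x → ∃ t ∈ T, IsConj x t) :
    ∃ t ∈ T, IsConj y t ∧ IsConj (t : G) y := by
  obtain ⟨t, ht, hyt⟩ := hT y fun s hs hd => hy s hs (by rwa [Subgroup.orderOf_coe])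
  exact ⟨t, ht, hyt, ((Subgroup.subtype _).map_isConj hyt).symm⟩

/-- A noncentral element of `N(P)` halves the excess. -/
theorem good_weight {π : Finset ℕ} (P : Sylow p G) {n' : G}
    (hN : n' ∈ normalizer ((P : Subgroup G) : Set G))
    (hC : n' ∉ centralizer ((P : Subgroup G) : Set G))
    (y : centralizer ((P : Subgroup G) : Set G))
    (T : Finset (centralizer ((P : Subgroup G) : Set G))) (hy : IsPiElt π (y : G))
    (hT : ∀ x, IsPiElt π x → ∃ t ∈ T, IsConj x t) :
    2 * p * k ({p} : Finset ℕ) (centralizer ({(y : G)} : Set G)) ≤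
      2 * Nat.card (P : Subgroup G) + (p - 1) * Nat.card (P : Subgroup G) *
        (fibre T (y : G)).card := by
  classical
  have hp : p.Prime := Fact.out
  set o := Nat.card (P : Subgroup G) with ho
  obtain ⟨t₁, ht₁, hyt₁, ht₁y⟩ := one_le_fib hy hT
  have ht₁F : t₁ ∈ (fibre T (y : G)) := mem_fibre.2 ⟨ht₁, ht₁y⟩
  by_cases h2 : 2 ≤ (fibre T (y : G)).card
  · calc 2 * p * k ({p} : Finset ℕ) (centralizer ({(y : G)} : Set G)) ≤ 2 * p * o := Nat.mul_le_mul_left _ (k_singleton_le_sylow P (centralizer ({(y : G)} : Set G)))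
      _ = 2 * o + (p - 1) * o * 2 := by
          obtain ⟨p', hp'⟩ : ∃ p', p = p' + 1 := ⟨p - 1, by have := hp.pos; omega⟩
          rw [hp', Nat.add_sub_cancel]; ring
      _ ≤ _ := Nat.add_le_add_left (Nat.mul_le_mul_left _ h2) _
  -- the class of `y` meets `C(P)` in one class, so some element of `C(y) ∩ N(P)` is noncentral
  have hy' : n' * y * n'⁻¹ ∈ (centralizer ((P : Subgroup G) : Set G)) := by
    show n' * (y : G) * n'⁻¹ ∈ centralizer ((P : Subgroup G) : Set G)
    rw [mem_centralizer_iff]
    intro x hx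
    have hx' : n'⁻¹ * x * n' ∈ (P : Subgroup G) := (mem_normalizer_iff''.1 hN x).1 hx
    have h1 := mem_centralizer_iff.1 y.2 _ hx'
    calc x * (n' * y * n'⁻¹) = n' * ((n'⁻¹ * x * n') * y) * n'⁻¹ := by group
      _ = n' * (y * (n'⁻¹ * x * n')) * n'⁻¹ := by rw [h1]
      _ = n' * y * n'⁻¹ * x := by group
  obtain ⟨t₂, ht₂, hyt₂, ht₂y⟩ := one_le_fib (P := P) (y := ⟨_, hy'⟩) (T := T)
    (isPiElt_of_isConj (isConj_iff.2 ⟨n', rfl⟩) hy) hT
  have ht₂F : t₂ ∈ (fibre T (y : G)) := mem_fibre.2 ⟨ht₂, ht₂y.trans (isConj_iff.2 ⟨n', rfl⟩).symm⟩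
  have heq : t₁ = t₂ := by
    by_contra hne
    have : ({t₁, t₂} : Finset (centralizer ((P : Subgroup G) : Set G))) ⊆ (fibre T (y : G)) := by
      intro z hz
      rcases Finset.mem_insert.1 hz with rfl | hz'
      · exact ht₁F
      · rw [Finset.mem_singleton.1 hz']; exact ht₂F
    have := Finset.card_le_card this
    rw [Finset.card_pair hne] at this
    omega
  obtain ⟨c, hc⟩ := isConj_iff.1 (hyt₁.trans (heq ▸ hyt₂.symm))
  have hc' : (c : G) * y * (c : G)⁻¹ = n' * y * n'⁻¹ := congrArg Subtype.val hc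
  set m := (c : G)⁻¹ * n' with hm
  have hmC : m ∈ (centralizer ({(y : G)} : Set G)) := by
    rw [mem_centralizer_singleton_iff, hm]
    calc (c : G)⁻¹ * n' * y = (c : G)⁻¹ * (n' * y * n'⁻¹) * n' := by group
      _ = (c : G)⁻¹ * ((c : G) * y * (c : G)⁻¹) * n' := by rw [hc']
      _ = y * ((c : G)⁻¹ * n') := by group
  have hmN : m ∈ normalizer ((P : Subgroup G) : Set G) :=
    mul_mem (inv_mem (centralizer_le_normalizer _ c.2)) hN
  have hmCP : m ∉ (centralizer ((P : Subgroup G) : Set G)) := fun h => hC (by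
    have := mul_mem c.2 h
    rwa [hm, mul_inv_cancel_left] at this)
  have hPC : (P : Subgroup G) ≤ (centralizer ({(y : G)} : Set G)) := fun x hx => by
    rw [mem_centralizer_singleton_iff]
    exact mem_centralizer_iff.1 y.2 x hx
  let S : Sylow p (centralizer ({(y : G)} : Set G)) := P.subtype hPC
  have hmn : (⟨m, hmC⟩ : (centralizer ({(y : G)} : Set G))) ∈ normalizer ((S : Subgroup (centralizer ({(y : G)} : Set G))) : Set (centralizer ({(y : G)} : Set G))) := by
    rw [mem_normalizer_iff]
    intro x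
    simp only [S, Sylow.coe_subtype, mem_subgroupOf]
    exact mem_normalizer_iff.1 hmN (x : G)
  have hk : 2 * k ({p} : Finset ℕ) (centralizer ({(y : G)} : Set G)) ≤ Nat.card (S : Subgroup (centralizer ({(y : G)} : Set G))) +
      (2 - 1) * Nat.card ↥((S : Subgroup (centralizer ({(y : G)} : Set G))) ⊓ centralizer ({⟨m, hmC⟩} : Set (centralizer ({(y : G)} : Set G)))) :=
    mul_k_le_subgroup (S : Subgroup (centralizer ({(y : G)} : Set G))) hmn (fun x hx => exists_conj_mem_sylow S hx)
      fun s hs _ => hs.two_le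
  have hS : Nat.card (S : Subgroup (centralizer ({(y : G)} : Set G))) = o := Nat.card_congr (subgroupOfEquivOfLe hPC).toEquiv
  have hfix : Nat.card ↥((S : Subgroup (centralizer ({(y : G)} : Set G))) ⊓ centralizer ({⟨m, hmC⟩} : Set (centralizer ({(y : G)} : Set G)))) ≤
      Nat.card ↥((P : Subgroup G) ⊓ centralizer ({m} : Set G)) := by
    refine Nat.card_le_card_of_injective
      (fun x => ⟨((x : (centralizer ({(y : G)} : Set G))) : G), ?_⟩) fun x z h => Subtype.ext (Subtype.ext (congrArg Subtype.val h :))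
    obtain ⟨hx1, hx2⟩ := mem_inf.1 x.2
    exact mem_inf.2 ⟨hx1, mem_centralizer_singleton_iff.2
      (congrArg Subtype.val (mem_centralizer_singleton_iff.1 hx2))⟩
  have hfp : p * Nat.card ↥((P : Subgroup G) ⊓ centralizer ({m} : Set G)) ≤ o :=
    mul_fixed_le hmCP fun s hs hd => by
      obtain ⟨j, hj⟩ := P.2.exists_card_eq
      rw [hj] at hd
      exact ((Nat.prime_dvd_prime_iff_eq hs hp).1 (hs.dvd_of_dvd_pow hd)).ge
  rw [hS, show (2 - 1 : ℕ) = 1 from rfl, one_mul] at hk
  have hF1 : 1 ≤ (fibre T (y : G)).card := Finset.card_pos.2 ⟨t₁, ht₁F⟩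
  calc 2 * p * k ({p} : Finset ℕ) (centralizer ({(y : G)} : Set G)) = p * (2 * k ({p} : Finset ℕ) (centralizer ({(y : G)} : Set G))) := by ring
    _ ≤ p * o + o := by
        refine (Nat.mul_le_mul_left p hk).trans ?_
        rw [Nat.mul_add]
        exact Nat.add_le_add_left ((Nat.mul_le_mul_left p hfix).trans hfp) _
    _ = 2 * o + (p - 1) * o * 1 := by
        obtain ⟨p', hp'⟩ : ∃ p', p = p' + 1 := ⟨p - 1, by have := hp.pos; omega⟩
        rw [hp', Nat.add_sub_cancel]; ring
    _ ≤ _ := Nat.add_le_add_left (Nat.mul_le_mul_left _ hF1) _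

/-- With a normal `p`-complement, a Sylow `p`-subgroup normalises the abelian Hall subgroup. -/
theorem exists_sylow_normalizing (A : Subgroup G) [IsMulCommutative A]
    (hcop : (Nat.card A).Coprime A.index) (hpA : (Nat.card A).Coprime p)
    (h : Cfsg.HasNormalPComplement p G) :
    ∃ P : Sylow p G, (P : Subgroup G) ≤ normalizer (A : Set G) := by
  obtain ⟨P₀, K, hKn, hK⟩ := h
  have hidx : K.index = Nat.card (P₀ : Subgroup G) := hK.symm.index_eq_card
  obtain ⟨e, he⟩ := P₀.2.exists_card_eq
  have hAK : A ≤ K := by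
    intro x hx
    rw [← QuotientGroup.eq_one_iff (N := K), ← orderOf_eq_one_iff]
    refine Nat.eq_one_of_dvd_coprimes (hpA.pow_right e) ?_ ?_
    · exact (orderOf_map_dvd (QuotientGroup.mk' K) x).trans (A.orderOf_dvd_natCard hx)
    · rw [← he, ← hidx]
      exact orderOf_dvd_natCard _
  have htop : normalizer (A : Set G) ⊔ K = ⊤ := by
    rw [eq_top_iff]
    intro g _
    set A' := A.map (MulAut.conj g).toMonoidHom with hA'
    have hA'K : A' ≤ K := by
      rintro _ ⟨x, hx, rfl⟩
      exact hKn.conj_mem x (hAK hx) g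
    have hc1 : Nat.card (A.subgroupOf K) = Nat.card A :=
      Nat.card_congr (subgroupOfEquivOfLe hAK).toEquiv
    have hc2 : Nat.card (A'.subgroupOf K) = Nat.card A :=
      (Nat.card_congr (subgroupOfEquivOfLe hA'K).toEquiv).trans
        (card_map_of_injective (MulAut.conj g).injective)
    have hn1 : Group.IsNilpotent (A.subgroupOf K) :=
      Group.nilpotent_of_mulEquiv (subgroupOfEquivOfLe hAK).symm
    haveI : Group.IsNilpotent A' :=
      Group.nilpotent_of_surjective ((MulAut.conj g).toMonoidHom.subgroupMap A)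
        (MonoidHom.subgroupMap_surjective _ _)
    have hn2 : Group.IsNilpotent (A'.subgroupOf K) :=
      Group.nilpotent_of_mulEquiv (subgroupOfEquivOfLe hA'K).symm
    obtain ⟨c, hc⟩ := Transfer.NilpotentHall.exists_conj_of_nilpotent_hall hn2 hn1
      (hc2.trans hc1.symm) (by
        rw [hc2]
        refine hcop.coprime_dvd_right ((relIndex_dvd_index_of_le hA'K).trans (dvd_of_eq ?_))
        have h1 := A'.card_mul_index
        rw [← A.card_mul_index, hA',
          card_map_of_injective (f := (MulAut.conj g).toMonoidHom) (MulAut.conj g).injective] at h1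
        exact Nat.eq_of_mul_eq_mul_left Nat.card_pos h1)
    have hcg : (c : G) * g ∈ normalizer (A : Set G) := by
      refine mem_normalizer_fintype (S := (A : Set G)) fun x hx => ?_
      have h1 : (⟨g * x * g⁻¹, hA'K ⟨x, hx, rfl⟩⟩ : K) ∈ A'.subgroupOf K := ⟨x, hx, rfl⟩
      have h2 := hc ▸ Subgroup.mem_map_of_mem (MulAut.conj c).toMonoidHom h1
      rw [mem_subgroupOf] at h2
      simpa [mul_assoc] using h2
    rw [show g = (c : G)⁻¹ * ((c : G) * g) by group]
    exact mul_mem (mem_sup_right (K.inv_mem c.2)) (mem_sup_left hcg)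
  have hdvd : p ^ (Nat.card G).factorization p ∣ Nat.card (normalizer (A : Set G)) := by
    rw [← P₀.card_eq_multiplicity, ← hidx, ← relIndex_top_right K, ← htop, relIndex_sup_right]
    exact relIndex_dvd_card K _
  set N := normalizer (A : Set G)
  obtain ⟨S⟩ : Nonempty (Sylow p N) := inferInstance
  refine ⟨Sylow.ofCard ((S : Subgroup N).map N.subtype) ?_, map_subtype_le _⟩
  rw [card_map_of_injective N.subtype_injective, S.card_eq_multiplicity]
  refine congrArg (p ^ ·) (le_antisymm
    ((Nat.factorization_le_iff_dvd Nat.card_pos.ne' Nat.card_pos.ne').2 N.card_subgroup_dvd_card p)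
    ((Fact.out : p.Prime).pow_dvd_iff_le_factorization Nat.card_pos.ne' |>.1 hdvd))

theorem caseB {π : Finset ℕ} (hπ : ∀ s ∈ π, s.Prime) {r : ℕ} (hpπ : p ∈ π)
    (hr : ∀ s ∈ π.erase p, r ≤ s) (hpr : p < r) (hno : ¬ HasPair p (π.erase p) G)
    (A : Subgroup G) [IsMulCommutative A] (hA : Nat.card A = part (π.erase p) G)
    {n : G} (hnN : n ∈ normalizer (A : Set G)) (hnC : n ∉ centralizer (A : Set G))
    (hNC : ∀ P : Sylow p G, r * k (π.erase p) (centralizer ((P : Subgroup G) : Set G)) ≤
      part (π.erase p) G) :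
    p * k π G ≤ part π G := by
  classical
  have hp : p.Prime := Fact.out
  set μ := π.erase p with hμdef
  have hμ : ∀ s ∈ μ, s.Prime := fun s hs => hπ s (Finset.mem_of_mem_erase hs)
  obtain ⟨P⟩ : Nonempty (Sylow p G) := inferInstance
  set a := part μ G with ha
  set o := Nat.card (P : Subgroup G) with ho
  have hcov : ∀ x : G, IsPiElt μ x → ∃ y ∈ A, IsConj x y := fun x hx =>
    exists_conj_mem_hall hμ A hA hx
  have hAr : ∀ s : ℕ, s.Prime → s ∣ Nat.card A → r ≤ s := fun s hs hd =>
    hr s (mem_of_dvd_part hμ hs (hA ▸ hd))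
  rw [part_eq_mul hpπ, ← hμdef, ← P.card_eq_multiplicity]
  obtain ⟨p', hp'⟩ : ∃ p', p = p' + 1 := ⟨p - 1, by have := hp.pos; omega⟩
  by_cases hNP : ∃ n' ∈ normalizer ((P : Subgroup G) : Set G),
      n' ∉ centralizer ((P : Subgroup G) : Set G)
  · obtain ⟨n', hn'N, hn'C⟩ := hNP
    have hw := weighted π P 2 fun y T hy hT => good_weight P hn'N hn'C y T hy hT
    rw [← hμdef] at hw
    set NC := k μ (centralizer ((P : Subgroup G) : Set G))
    have h1 := mul_k_le_subgroup A hnN (q := 2) hcov fun s hs _ => hs.two_le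
    have h2 := mul_fixed_le hnC hAr
    set F := Nat.card ↥(A ⊓ centralizer ({n} : Set G))
    rw [hA, show (2 - 1 : ℕ) = 1 from rfl, one_mul] at h1
    rw [hA] at h2
    have h3 := hNC P
    rw [show p - 1 = p' by omega] at hw
    have key : 2 * r * (p * k π G) ≤ 2 * r * (o * a) :=
      calc 2 * r * (p * k π G) = r * (2 * p * k π G) := by ring
        _ ≤ r * (2 * o * k μ G + p' * o * NC) := Nat.mul_le_mul_left r hw
        _ = o * (r * (2 * k μ G) + p' * (r * NC)) := by ring
        _ ≤ o * (r * (a + F) + p' * a) := by gcongr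
        _ = o * (r * a + r * F + p' * a) := by ring
        _ ≤ o * (r * a + a + p' * a) := by gcongr
        _ = o * a * (r + (p' + 1)) := by ring
        _ ≤ o * a * (r + r) := by gcongr; omega
        _ = 2 * r * (o * a) := by ring
    exact Nat.le_of_mul_le_mul_left key (by omega)
  · push Not at hNP
    have hnc := Transfer.NormalPComplement.hasNormalPComplement_of_normalizer_le_centralizer P hNP
    have hpA : (Nat.card A).Coprime p := by
      rw [hA]
      have := part_coprime (G := G) hμ hp (Finset.notMem_erase p π) 1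
      rw [pow_one] at this
      exact this.symm
    obtain ⟨P', hP'⟩ := exists_sylow_normalizing A (coprime_index hμ A hA) hpA hnc
    obtain ⟨m, hmP, hmC⟩ : ∃ m ∈ (P' : Subgroup G), m ∉ centralizer (A : Set G) := by
      by_contra h
      push Not at h
      exact hno ⟨P', A, inferInstance, hA, le_centralizer_swap h⟩
    have hmq : ∀ s : ℕ, s.Prime → s ∣ orderOf m → p ≤ s := fun s hs hd => by
      obtain ⟨j, hj⟩ := IsPGroup.iff_orderOf.1 P'.2 ⟨m, hmP⟩
      rw [Subgroup.orderOf_mk] at hj
      rw [hj] at hd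
      exact ((Nat.prime_dvd_prime_iff_eq hs hp).1 (hs.dvd_of_dvd_pow hd)).ge
    have h1 := mul_k_le_subgroup A (hP' hmP) (q := p) hcov hmq
    have h2 := mul_fixed_le hmC hAr
    set F := Nat.card ↥(A ⊓ centralizer ({m} : Set G))
    rw [hA] at h1 h2
    have hw := weighted π P 1 fun y T hy hT => by
      obtain ⟨t, ht, -, hty⟩ := one_le_fib hy hT
      rw [one_mul, one_mul]
      refine (Nat.mul_le_mul_left p (k_singleton_le_sylow P _)).trans ?_
      refine le_trans (le_of_eq ?_) (Nat.add_le_add_left (Nat.mul_le_mul_left _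
        (Finset.card_pos.2 ⟨t, mem_fibre.2 ⟨ht, hty⟩⟩)) _)
      rw [show p - 1 = p' by omega, show p * Nat.card (P : Subgroup G) =
        (p' + 1) * Nat.card (P : Subgroup G) from congrArg (· * _) hp']
      ring
    rw [← hμdef, one_mul, one_mul] at hw
    set NC := k μ (centralizer ((P : Subgroup G) : Set G))
    have h3 := hNC P
    obtain ⟨t, rfl⟩ : ∃ t, r = p + 1 + t := ⟨r - (p + 1), by omega⟩
    rw [show p - 1 = p' by omega] at h1 hw
    have key : p * (p + 1 + t) * (p * k π G) ≤ p * (p + 1 + t) * (o * a) :=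
      calc p * (p + 1 + t) * (p * k π G) ≤ p * (p + 1 + t) * (o * k μ G + p' * o * NC) :=
            Nat.mul_le_mul_left _ hw
        _ = o * ((p + 1 + t) * (p * k μ G) + p * p' * ((p + 1 + t) * NC)) := by ring
        _ ≤ o * ((p + 1 + t) * (a + p' * F) + p * p' * a) := by gcongr
        _ = o * ((p + 1 + t) * a + p' * ((p + 1 + t) * F) + p * p' * a) := by ring
        _ ≤ o * ((p + 1 + t) * a + p' * a + p * p' * a) := by gcongr
        _ = o * a * ((p + 1) * (p' + 1) + t) := by ring
        _ = o * a * ((p + 1) * p + t) := by rw [← hp']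
        _ ≤ o * a * ((p + 1) * p + t * p) := by gcongr; exact Nat.le_mul_of_pos_right t hp.pos
        _ = p * (p + 1 + t) * (o * a) := by ring
    exact Nat.le_of_mul_le_mul_left key (Nat.mul_pos hp.pos (by omega))

end Cfsg.Agent.GStructB.ManyPiClasses
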