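import Mathlib
import Cfsg.Agent.Lib.Characters.Kernel
import Cfsg.Agent.Lib.Characters.Integrality
import Cfsg.Agent.Lib.PiClasses.Basic

/-!
The number of classes of a `p`-group against the order of its derived subgroup.
-/

set_option autoImplicit false

namespace Cfsg.Agent.GStructB.ManyPiClasses

open Cfsg.Agent.Characters
open scoped commutatorElement

universe u

variable {P : Type u} [Group P] [Finite P] {p : ℕ} [Fact p.Prime]

theorem derived_bound (hP : IsPGroup p P) :
    p ^ 2 * Nat.card (ConjClasses P) ≤ Nat.card P + (p ^ 2 - 1) * (commutator P).index := by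
  classical
  haveI := Fintype.ofFinite P
  haveI := Fintype.ofFinite (Cfsg.IrrCharacter P)
  have hd : ∀ χ : Cfsg.IrrCharacter P, ∃ n : ℕ, (χ : P → ℂ) 1 = (n : ℂ) ∧ 0 < n ∧ n ∣ Nat.card P :=
    fun χ => irr_degree_dvd_card χ.2
  choose d hd1 hd2 hd3 using hd
  have hsum : ∑ χ : Cfsg.IrrCharacter P, d χ ^ 2 = Nat.card P := by
    have h := sum_degree_sq (G := P)
    simp only [hd1] at h
    exact_mod_cast h
  have hlin : (Finset.univ.filter fun χ : Cfsg.IrrCharacter P => d χ = 1).card =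
      (commutator P).index := by
    rw [← card_degree_one, ← Fintype.card_subtype, ← Nat.card_eq_fintype_card]
    exact Nat.card_congr (Equiv.subtypeEquivRight fun χ => by rw [hd1, Nat.cast_eq_one])
  have hle : ∀ χ ∈ (Finset.univ : Finset (Cfsg.IrrCharacter P)),
      p ^ 2 ≤ d χ ^ 2 + (p ^ 2 - 1) * (if d χ = 1 then 1 else 0) := by
    intro χ _
    split_ifs with h
    · rw [h, one_pow, mul_one]; omega
    · refine le_trans (Nat.pow_le_pow_left ?_ 2) (Nat.le_add_right _ _)
      obtain ⟨e, he⟩ := hP.exists_card_eq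
      obtain ⟨i, -, hi⟩ := (Nat.dvd_prime_pow Fact.out).1 (he ▸ hd3 χ)
      rw [hi]
      exact Nat.le_self_pow (fun h0 => h (by rw [hi, h0, pow_zero])) p
  have h := Finset.sum_le_sum hle
  rw [Finset.sum_const, Finset.card_univ, smul_eq_mul, Finset.sum_add_distrib, hsum,
    ← Finset.mul_sum, Finset.sum_boole, Nat.cast_id, hlin, ← Nat.card_eq_fintype_card,
    card_irrCharacter, mul_comm] at h
  exact h

theorem card_commutator_le (hP : IsPGroup p P) (h : Nat.card P < p * Nat.card (ConjClasses P)) :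
    Nat.card (commutator P) ≤ p := by
  have hp : p.Prime := Fact.out
  obtain ⟨e, he⟩ := (hP.to_subgroup (commutator P)).exists_card_eq
  by_contra hlt
  have he2 : 2 ≤ e := by
    by_contra h2
    rcases (by omega : e = 0 ∨ e = 1) with rfl | rfl
    · rw [he, pow_zero] at hlt; exact hlt hp.one_lt.le
    · rw [he, pow_one] at hlt; exact hlt le_rfl
  have h1 := derived_bound hP
  have h2 : p ^ 2 * (commutator P).index ≤ Nat.card P := by
    rw [← (commutator P).card_mul_index, he]
    exact Nat.mul_le_mul_right _ (Nat.pow_le_pow_right hp.pos he2)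
  obtain ⟨q, rfl⟩ : ∃ q, p = q + 2 := ⟨p - 2, by have := hp.two_le; omega⟩
  obtain ⟨s, hs⟩ : ∃ s, (q + 2) ^ 2 - 1 = s := ⟨_, rfl⟩
  have hs' : (q + 2) ^ 2 = s + 1 := by
    have : 1 ≤ (q + 2) ^ 2 := Nat.one_le_pow _ _ (by omega)
    omega
  rw [hs] at h1
  nlinarith [Nat.mul_le_mul_left (s + 1) h1, Nat.mul_le_mul_left s h2,
    Nat.mul_le_mul_left ((q + 2) ^ 3) (Nat.succ_le_of_lt h), Nat.zero_le q]

theorem comm_of_lt (hP : IsPGroup p P)
    (h : Nat.card P * (p ^ 2 + p - 1) < p ^ 3 * Nat.card (ConjClasses P)) : IsMulCommutative P := by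
  have hp : p.Prime := Fact.out
  by_contra hnc
  obtain ⟨e, he⟩ := (hP.to_subgroup (commutator P)).exists_card_eq
  have he1 : 1 ≤ e := by
    by_contra h0
    have he' : e = 0 := by omega
    have hbot : commutator P = ⊥ := Subgroup.eq_bot_of_card_eq _ (by rw [he, he', pow_zero])
    refine hnc ⟨⟨fun a b => ?_⟩⟩
    have h1 : ⁅a, b⁆ ∈ commutator P :=
      Subgroup.commutator_mem_commutator (Subgroup.mem_top a) (Subgroup.mem_top b)
    rw [hbot, Subgroup.mem_bot, commutatorElement_eq_one_iff_mul_comm] at h1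
    exact h1
  have h1 := derived_bound hP
  have h2 : p * (commutator P).index ≤ Nat.card P := by
    rw [← (commutator P).card_mul_index, he]
    exact Nat.mul_le_mul_right _ (Nat.le_self_pow (by omega) p)
  obtain ⟨q, rfl⟩ : ∃ q, p = q + 2 := ⟨p - 2, by have := hp.two_le; omega⟩
  obtain ⟨s, hs⟩ : ∃ s, (q + 2) ^ 2 - 1 = s := ⟨_, rfl⟩
  have hs' : (q + 2) ^ 2 = s + 1 := by
    have : 1 ≤ (q + 2) ^ 2 := Nat.one_le_pow _ _ (by omega)
    omega
  obtain ⟨t, ht⟩ : ∃ t, (q + 2) ^ 2 + (q + 2) - 1 = t := ⟨_, rfl⟩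
  rw [hs] at h1
  rw [show t = s + (q + 2) by omega] at ht
  rw [ht] at h
  nlinarith [Nat.mul_le_mul_left (q + 2) h1, Nat.mul_le_mul_left s h2]

/-- Classes of `p`-elements are at most the classes of a Sylow `p`-subgroup. -/
theorem k_le_classes {G : Type u} [Group G] [Finite G] (S : Sylow p G) :
    Cfsg.Agent.PiClasses.k ({p} : Finset ℕ) G ≤ Nat.card (ConjClasses (S : Subgroup G)) := by
  classical
  have h : ∀ c : {c : ConjClasses G // ∀ x ∈ c.carrier, Cfsg.Agent.PiClasses.IsPiElt ({p} : Finset ℕ) x},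
      ∃ d : ConjClasses (S : Subgroup G), ConjClasses.map (S : Subgroup G).subtype d = c.1 := by
    intro c
    obtain ⟨x, hx⟩ := ConjClasses.mk_surjective c.1
    obtain ⟨e, he⟩ := (Cfsg.Agent.PiClasses.isPiElt_iff_pow Fact.out x).1
      (c.2 x (by rw [ConjClasses.mem_carrier_iff_mk_eq, hx]))
    obtain ⟨Q, hQ⟩ := (IsPGroup.of_card (p := p) (n := e)
      (by rw [Nat.card_zpowers, he]) : IsPGroup p (Subgroup.zpowers x)).exists_le_sylow
    obtain ⟨g, hg⟩ := MulAction.exists_smul_eq G Q S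
    refine ⟨ConjClasses.mk ⟨g * x * g⁻¹, ?_⟩, ?_⟩
    · rw [← hg, Sylow.coe_subgroup_smul]
      exact Subgroup.smul_mem_pointwise_smul x (MulAut.conj g) _ (hQ (Subgroup.mem_zpowers x))
    · rw [← hx]
      exact ConjClasses.mk_eq_mk_iff_isConj.2 (isConj_iff.2 ⟨g, rfl⟩).symm
  choose f hf using h
  exact Nat.card_le_card_of_injective f fun c d e => Subtype.ext (by rw [← hf c, ← hf d, e])

end Cfsg.Agent.GStructB.ManyPiClasses
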