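import Mathlib
import Cfsg.Agent.GStructB.ManyPiClasses.CaseA
import Cfsg.Agent.GStructB.ManyPiClasses.CaseB
import Cfsg.Agent.GStructB.ManyPiClasses.Degree
import Cfsg.Agent.Lib.Coprime.Basic

/-!
Many classes of `π`-elements force an abelian Hall `π \ {p}`-subgroup centralising a Sylow `p`-subgroup.
-/

set_option autoImplicit false
set_option linter.unusedSectionVars false

namespace Cfsg.Agent.GStructB.ManyPiClasses

open Cfsg.Agent.PiClasses Subgroup
open scoped IsMulCommutative commutatorElement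

universe u

theorem isMulCommutative_sup {G : Type u} [Group G] {R B : Subgroup G} [IsMulCommutative R]
    [IsMulCommutative B] (h : B ≤ centralizer (R : Set G)) :
    IsMulCommutative ↥(R ⊔ B) := by
  have h1 : R ⊔ B ≤ centralizer (R : Set G) := sup_le R.le_centralizer h
  have h2 : R ⊔ B ≤ centralizer (B : Set G) := sup_le (le_centralizer_swap' h) B.le_centralizer
  have h3 : R ⊔ B ≤ centralizer ((R ⊔ B : Subgroup G) : Set G) :=
    sup_le (le_centralizer_swap' h1) (le_centralizer_swap' h2)
  exact ⟨⟨fun x y => Subtype.ext (mem_centralizer_iff.1 (h3 y.2) x x.2)⟩⟩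
where
  le_centralizer_swap' {H K : Subgroup G} (h : H ≤ centralizer (K : Set G)) :
      K ≤ centralizer (H : Set G) := fun x hx => by
    rw [mem_centralizer_iff]
    intro y hy
    exact (mem_centralizer_iff.1 (h hy) x hx).symm

theorem card_sup_of_centralizes {G : Type u} [Group G] [Finite G] {R B : Subgroup G}
    (h : B ≤ centralizer (R : Set G)) (hcop : (Nat.card R).Coprime (Nat.card B)) :
    Nat.card ↥(R ⊔ B) = Nat.card R * Nat.card B :=
  Coprime.card_sup_of_disjoint (h.trans (centralizer_le_normalizer _))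
    (disjoint_iff.2 (inf_eq_bot_of_coprime hcop))

/-- From a commuting pair for `(r, μ \ {r})` to an abelian Hall `μ`-subgroup. -/
theorem abelian_hall_of_pair {G : Type u} [Group G] [Finite G] {μ : Finset ℕ}
    (hμ : ∀ s ∈ μ, s.Prime) {r : ℕ} [Fact r.Prime] (hr : r ∈ μ)
    (hab : ∀ T : Sylow r G, IsMulCommutative (T : Subgroup G)) (h : HasPair r (μ.erase r) G) :
    ∃ A : Subgroup G, IsMulCommutative A ∧ Nat.card A = part μ G := by
  obtain ⟨R, B, hBc, hBcard, hBR⟩ := h
  haveI := hab R
  refine ⟨(R : Subgroup G) ⊔ B, isMulCommutative_sup hBR, ?_⟩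
  have hcop : (Nat.card (R : Subgroup G)).Coprime (Nat.card B) := by
    rw [R.card_eq_multiplicity, hBcard]
    exact part_coprime (fun s hs => hμ s (Finset.mem_of_mem_erase hs)) Fact.out
      (Finset.notMem_erase r μ) _
  rw [card_sup_of_centralizes hBR hcop, R.card_eq_multiplicity, hBcard, part_eq_mul hr]

theorem main : ∀ (π : Finset ℕ), (∀ s ∈ π, s.Prime) → ∀ (p : ℕ), p ∈ π → (∀ s ∈ π, p ≤ s) →
    ∀ (G : Type u) [Group G] [Finite G], part π G < p * k π G → HasPair p (π.erase p) G := by
  intro π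
  induction π using Finset.strongInduction with
  | _ π ih =>
  intro hπ p hpπ hmin G _ _ hmany
  classical
  have hp : p.Prime := hπ p hpπ
  haveI := Fact.mk hp
  set μ := π.erase p with hμdef
  have hμ : ∀ s ∈ μ, s.Prime := fun s hs => hπ s (Finset.mem_of_mem_erase hs)
  obtain ⟨P⟩ : Nonempty (Sylow p G) := inferInstance
  rcases μ.eq_empty_or_nonempty with he | hne
  · exact ⟨P, ⊥, inferInstance, by rw [he, card_bot, part, Finset.prod_empty], bot_le⟩
  obtain ⟨r, hrμ, hr⟩ : ∃ r ∈ μ, ∀ s ∈ μ, r ≤ s :=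
    ⟨μ.min' hne, μ.min'_mem hne, fun s hs => μ.min'_le s hs⟩
  have hrp : r.Prime := hμ r hrμ
  haveI := Fact.mk hrp
  have hpr : p < r :=
    lt_of_le_of_ne (hmin r (Finset.mem_of_mem_erase hrμ)) (Finset.ne_of_mem_erase hrμ).symm
  have hμlt : μ ⊂ π := Finset.erase_ssubset hpπ
  have hμp : part μ G < p * k μ G := by
    obtain ⟨R, hRcard, -, hRcov, -, -⟩ := exists_reps (G := G) μ (fun _ => True)
    have h1 := k_le_sum (fun x hx => decomp_swap hp hx) (π := π) R hRcov
    have h2 : k π G ≤ k μ G * p ^ (Nat.card G).factorization p := by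
      refine h1.trans ((Finset.sum_le_card_nsmul _ _ _ fun y _ => ?_).trans
        (le_of_eq (by rw [smul_eq_mul, hRcard])))
      rw [← P.card_eq_multiplicity]
      exact k_singleton_le_sylow P _
    rw [part_eq_mul hpπ, ← hμdef] at hmany
    have h3 := hmany.trans_le (Nat.mul_le_mul_left p h2)
    rw [show p * (k μ G * p ^ (Nat.card G).factorization p) =
      p ^ (Nat.card G).factorization p * (p * k μ G) by ring] at h3
    exact Nat.lt_of_mul_lt_mul_left h3
  -- the Sylow `r`-subgroups are abelian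
  have hab : ∀ T : Sylow r G, IsMulCommutative (T : Subgroup G) := by
    intro T
    refine comm_of_lt T.2 ?_
    have h1 := k_le_mul_prod (G := G) hμ hrμ
    have h2 : r ^ (Nat.card G).factorization r < p * k ({r} : Finset ℕ) G := by
      rw [part_eq_mul hrμ] at hμp
      have h3 := hμp.trans_le (Nat.mul_le_mul_left p h1)
      rw [← mul_assoc] at h3
      exact Nat.lt_of_mul_lt_mul_right h3
    rw [← T.card_eq_multiplicity] at h2
    have h4 := h2.trans_le (Nat.mul_le_mul_left p (k_le_classes T))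
    obtain ⟨t, rfl⟩ : ∃ t, r = p + 1 + t := ⟨r - (p + 1), by omega⟩
    obtain ⟨s, hs⟩ : ∃ s, (p + 1 + t) ^ 2 + (p + 1 + t) - 1 = s := ⟨_, rfl⟩
    have hs1 : s + 1 = (p + 1 + t) ^ 2 + (p + 1 + t) := by
      have : 1 ≤ (p + 1 + t) ^ 2 := Nat.one_le_pow _ _ (by omega)
      omega
    rw [hs]
    refine Nat.lt_of_mul_lt_mul_left (a := p) ?_
    calc p * (Nat.card (T : Subgroup G) * s) = Nat.card (T : Subgroup G) * (p * s) := by ring
      _ ≤ Nat.card (T : Subgroup G) * (p + 1 + t) ^ 3 := by gcongr; nlinarith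
      _ = (p + 1 + t) ^ 3 * Nat.card (T : Subgroup G) := by ring
      _ < (p + 1 + t) ^ 3 * (p * Nat.card (ConjClasses (T : Subgroup G))) :=
          Nat.mul_lt_mul_of_pos_left h4 (by positivity)
      _ = p * ((p + 1 + t) ^ 3 * Nat.card (ConjClasses (T : Subgroup G))) := by ring
  obtain ⟨A, hAc, hA⟩ := abelian_hall_of_pair hμ hrμ hab
    (ih μ hμlt hμ r hrμ hr G (hμp.trans_le (Nat.mul_le_mul_right _ hpr.le)))
  by_contra hno
  refine hmany.not_ge ?_
  -- few `μ`-classes in the centraliser of a Sylow `p`-subgroup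
  have hNC : ∀ P : Sylow p G, r * k μ (centralizer ((P : Subgroup G) : Set G)) ≤ part μ G := by
    intro P'
    set C := centralizer ((P' : Subgroup G) : Set G)
    by_cases hC : part μ C = part μ G
    · by_contra hlt
      have h := ih μ hμlt hμ r hrμ hr C (by omega)
      have habC : ∀ T : Sylow r C, IsMulCommutative (T : Subgroup C) := by
        intro T
        obtain ⟨T', hT'⟩ := (T.2.map C.subtype).exists_le_sylow
        haveI := hab T'
        exact ⟨⟨fun x y => Subtype.ext (Subtype.ext (congrArg Subtype.val (mul_comm'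
          (⟨((x : C) : G), hT' ⟨_, x.2, rfl⟩⟩ : (T' : Subgroup G))
          ⟨((y : C) : G), hT' ⟨_, y.2, rfl⟩⟩) :))⟩⟩
      obtain ⟨B, hBc, hB⟩ := abelian_hall_of_pair hμ hrμ habC h
      refine hno ⟨P', B.map C.subtype, ?_, ?_, map_subtype_le _⟩
      · exact ⟨⟨fun ⟨_, x, hx, hxe⟩ ⟨_, y, hy, hye⟩ => Subtype.ext (by
          subst hxe hye
          exact congrArg (fun z : B => ((z : C) : G)) (mul_comm' (⟨x, hx⟩ : B) ⟨y, hy⟩))⟩⟩
      · rw [card_map_of_injective C.subtype_injective, hB, hC]
    · exact (Nat.mul_le_mul_left r (k_le_part hμ)).trans (mul_part_le hμ hr C hC)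
  by_cases hN : normalizer (A : Set G) ≤ centralizer (A : Set G)
  · refine caseA hπ hpπ hr hpr hno A hA hN ?_
    set C := centralizer (A : Set G)
    have hle : (Nat.card C).factorization p ≤ (Nat.card G).factorization p :=
      (Nat.factorization_le_iff_dvd Nat.card_pos.ne' Nat.card_pos.ne').2 C.card_subgroup_dvd_card p
    rcases hle.lt_or_eq with hlt | heq
    · rw [← pow_succ']
      exact Nat.pow_le_pow_right hp.pos hlt
    · obtain ⟨S⟩ : Nonempty (Sylow p C) := inferInstance
      refine absurd ?_ hno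
      refine ⟨Sylow.ofCard ((S : Subgroup C).map C.subtype) ?_, A, hAc, hA,
        le_centralizer_swap (map_subtype_le _)⟩
      rw [card_map_of_injective C.subtype_injective, S.card_eq_multiplicity, heq]
  · obtain ⟨n, hnN, hnC⟩ := SetLike.not_le_iff_exists.1 hN
    exact caseB hπ hpπ hr hpr hno A hA hnN hnC hNC

/-- A commuting pair gives a nilpotent Hall subgroup. -/
theorem exists_nilpotent_hall {G : Type u} [Group G] [Finite G] {π : Finset ℕ}
    (hπ : ∀ s ∈ π, s.Prime) {p : ℕ} [Fact p.Prime] (hpπ : p ∈ π) {P : Sylow p G} {A : Subgroup G}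
    [IsMulCommutative A] (hA : Nat.card A = part (π.erase p) G)
    (hAP : A ≤ centralizer ((P : Subgroup G) : Set G)) :
    Nat.card ↥((P : Subgroup G) ⊔ A) = part π G ∧ Group.IsNilpotent ↥((P : Subgroup G) ⊔ A) ∧
      Nat.card (commutator ↥((P : Subgroup G) ⊔ A)) ≤ Nat.card (commutator (P : Subgroup G)) := by
  have hcop : (Nat.card (P : Subgroup G)).Coprime (Nat.card A) := by
    rw [P.card_eq_multiplicity, hA]
    exact part_coprime (fun s hs => hπ s (Finset.mem_of_mem_erase hs)) Fact.out
      (Finset.notMem_erase p π) _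
  set H := (P : Subgroup G) ⊔ A
  let f : ↥(P : Subgroup G) × A →* H :=
    MonoidHom.noncommCoprod (inclusion le_sup_left) (inclusion le_sup_right)
      fun x a => Subtype.ext (mem_centralizer_iff.1 (hAP a.2) x x.2)
  have hcard : Nat.card H = Nat.card (P : Subgroup G) * Nat.card A :=
    card_sup_of_centralizes hAP hcop
  have hinj : Function.Injective f := by
    intro z w h
    have h' : (z.1 : G) * z.2 = w.1 * w.2 := congrArg Subtype.val h
    have h1 : (w.1 : G)⁻¹ * z.1 = w.2 * (z.2 : G)⁻¹ := by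
      rw [eq_mul_inv_iff_mul_eq, mul_assoc, h', inv_mul_cancel_left]
    have h2 : (w.1 : G)⁻¹ * z.1 ∈ (P : Subgroup G) ⊓ A :=
      ⟨(P : Subgroup G).mul_mem ((P : Subgroup G).inv_mem w.1.2) z.1.2,
        h1 ▸ A.mul_mem w.2.2 (A.inv_mem z.2.2)⟩
    rw [inf_eq_bot_of_coprime hcop, mem_bot, inv_mul_eq_one] at h2
    refine Prod.ext (Subtype.ext h2.symm) (Subtype.ext ?_)
    rw [h2] at h'
    exact mul_left_cancel h'
  have hsurj : Function.Surjective f :=
    ((Nat.bijective_iff_injective_and_card f).2 ⟨hinj, by rw [Nat.card_prod, hcard]⟩).2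
  refine ⟨by rw [hcard, P.card_eq_multiplicity, hA, part_eq_mul hpπ], ?_, ?_⟩
  · haveI : Group.IsNilpotent (P : Subgroup G) := P.2.isNilpotent
    exact Group.nilpotent_of_surjective f hsurj
  · let g : (P : Subgroup G) →* H := inclusion le_sup_left
    have hle : commutator H ≤ (commutator (P : Subgroup G)).map g := by
      rw [commutator_def, Subgroup.commutator_le]
      intro x _ y _
      obtain ⟨z, rfl⟩ := hsurj x
      obtain ⟨w, rfl⟩ := hsurj y
      rw [← map_commutatorElement]
      refine ⟨⁅z.1, w.1⁆, Subgroup.commutator_mem_commutator (mem_top _) (mem_top _), ?_⟩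
      have hz : (⁅z, w⁆ : ↥(P : Subgroup G) × A).2 = 1 := by
        show ⁅z.2, w.2⁆ = 1
        exact commutatorElement_eq_one_iff_mul_comm.2 (mul_comm' _ _)
      show g ⁅z.1, w.1⁆ = inclusion le_sup_left (⁅z, w⁆ : ↥(P : Subgroup G) × A).1 *
        inclusion le_sup_right (⁅z, w⁆ : ↥(P : Subgroup G) × A).2
      rw [hz, map_one, mul_one]
      rfl
    exact (card_le_of_le hle).trans (le_of_eq (card_map_of_injective (inclusion_injective _)))

end Cfsg.Agent.GStructB.ManyPiClasses
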