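import Mathlib
import Cfsg.Agent.GStructB.ManyPiClasses.Main

/-!
The statements for a set of primes.
-/

set_option autoImplicit false

namespace Cfsg.Agent.GStructB.ManyPiClasses

open Cfsg.Agent.PiClasses Subgroup

universe u

variable {G : Type u} [Group G] [Finite G]

theorem setup (π : Set ℕ) (hπ : ∀ q ∈ π, q.Prime) (p : ℕ) (hp : p ∈ π) (hmin : ∀ q ∈ π, p ≤ q)
    (m : ℕ) (hm : m ∣ Nat.card G) (hmπ : ∀ q : ℕ, q.Prime → q ∣ m → q ∈ π)
    (hm' : ∀ q ∈ π, ¬ q ∣ Nat.card G / m) :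
    ∃ s : Finset ℕ, (∀ q ∈ s, q.Prime) ∧ p ∈ s ∧ (∀ q ∈ s, p ≤ q) ∧ part s G = m ∧
      k s G = Nat.card {C : ConjClasses G //
        ∀ q : ℕ, q.Prime → (∃ g : G, ConjClasses.mk g = C ∧ q ∣ orderOf g) → q ∈ π} := by
  classical
  set s : Finset ℕ := insert p ((Nat.card G).primeFactors.filter (· ∈ π))
  have hsπ : ∀ q ∈ s, q ∈ π := fun q hq =>
    (Finset.mem_insert.1 hq).elim (fun h => h ▸ hp) fun h => (Finset.mem_filter.1 h).2
  have hπs : ∀ q : ℕ, q.Prime → q ∣ Nat.card G → q ∈ π → q ∈ s := fun q hq hd hqπ =>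
    Finset.mem_insert_of_mem (Finset.mem_filter.2
      ⟨Nat.mem_primeFactors.2 ⟨hq, hd, Nat.card_pos.ne'⟩, hqπ⟩)
  have hs : ∀ q ∈ s, q.Prime := fun q hq => hπ q (hsπ q hq)
  have hm0 : m ≠ 0 := ne_zero_of_dvd_ne_zero Nat.card_pos.ne' hm
  refine ⟨s, hs, Finset.mem_insert_self _ _, fun q hq => hmin q (hsπ q hq), ?_, ?_⟩
  · refine Nat.eq_of_factorization_eq (part_pos hs).ne' hm0 fun q => ?_
    rw [factorization_part hs]
    obtain ⟨c, hc⟩ := id hm
    have hc0 : c ≠ 0 := by rintro rfl; exact Nat.card_pos.ne' (hc.trans (mul_zero m))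
    by_cases hq : q ∈ s
    · have h1 : ¬ q ∣ c := by
        have := hm' q (hsπ q hq)
        rwa [hc, Nat.mul_div_cancel_left _ (Nat.pos_of_ne_zero hm0)] at this
      rw [if_pos hq, hc, Nat.factorization_mul hm0 hc0, Finsupp.add_apply,
        Nat.factorization_eq_zero_of_not_dvd h1, add_zero]
    · rw [if_neg hq]
      refine (Finsupp.notMem_support_iff.1 fun h => hq ?_).symm
      rw [Nat.support_factorization] at h
      have hd := Nat.dvd_of_mem_primeFactors h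
      have hpr := Nat.prime_of_mem_primeFactors h
      exact hπs q hpr (hd.trans hm) (hmπ q hpr hd)
  · refine Nat.card_congr (Equiv.subtypeEquivRight fun C => ⟨fun h q hq => ?_, fun h x hx q hq hd => ?_⟩)
    · rintro ⟨g, hg, hd⟩
      exact hsπ q (h g (ConjClasses.mem_carrier_iff_mk_eq.2 hg) q hq hd)
    · exact hπs q hq (hd.trans (orderOf_dvd_natCard x))
        (h q hq ⟨x, ConjClasses.mem_carrier_iff_mk_eq.1 hx, hd⟩)

theorem k_sylow_bound {s : Finset ℕ} (hs : ∀ q ∈ s, q.Prime) {p : ℕ} [Fact p.Prime] (hp : p ∈ s)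
    (P : Sylow p G) {X Y : ℕ} (h : part s G * X < Y * k s G) :
    Nat.card (P : Subgroup G) * X < Y * Nat.card (ConjClasses (P : Subgroup G)) := by
  have h1 := k_le_mul_prod (G := G) hs hp
  rw [part_eq_mul hp, ← P.card_eq_multiplicity] at h
  have h2 := h.trans_le (Nat.mul_le_mul_left Y
    (h1.trans (Nat.mul_le_mul_right _ (k_le_classes P))))
  refine Nat.lt_of_mul_lt_mul_right (a := part (s.erase p) G) ?_
  calc Nat.card (P : Subgroup G) * X * part (s.erase p) G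
      = Nat.card (P : Subgroup G) * part (s.erase p) G * X := by ring
    _ < Y * (Nat.card (ConjClasses (P : Subgroup G)) * part (s.erase p) G) := h2
    _ = _ := by ring

theorem nilpotent_hall {s : Finset ℕ} (hs : ∀ q ∈ s, q.Prime) {p : ℕ} (hp : p ∈ s)
    (hmin : ∀ q ∈ s, p ≤ q) (h : part s G < p * k s G) :
    ∃ H : Subgroup G, Nat.card H = part s G ∧ Group.IsNilpotent H ∧ Nat.card (commutator H) ≤ p := by
  haveI := Fact.mk (hs p hp)
  obtain ⟨P, A, hAc, hA, hAP⟩ := main s hs p hp hmin G h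
  obtain ⟨h1, h2, h3⟩ := exists_nilpotent_hall hs hp hA hAP
  refine ⟨_, h1, h2, h3.trans (card_commutator_le P.2 ?_)⟩
  simpa using k_sylow_bound hs hp P (X := 1) (Y := p) (by rwa [mul_one])

theorem abelian_hall {s : Finset ℕ} (hs : ∀ q ∈ s, q.Prime) {p : ℕ} (hp : p ∈ s)
    (hmin : ∀ q ∈ s, p ≤ q) (h : part s G * (p ^ 2 + p - 1) < p ^ 3 * k s G) :
    ∃ H : Subgroup G, Nat.card H = part s G ∧ IsMulCommutative H := by
  haveI := Fact.mk (hs p hp)
  have hp2 := (hs p hp).two_le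
  have hlt : part s G < p * k s G := by
    refine Nat.lt_of_mul_lt_mul_left (a := p ^ 2) ?_
    calc p ^ 2 * part s G ≤ part s G * (p ^ 2 + p - 1) := by
          rw [mul_comm]; exact Nat.mul_le_mul_left _ (by omega)
      _ < _ := h
      _ = _ := by ring
  obtain ⟨P, A, hAc, hA, hAP⟩ := main s hs p hp hmin G hlt
  obtain ⟨h1, -, -⟩ := exists_nilpotent_hall hs hp hA hAP
  haveI := comm_of_lt P.2 (k_sylow_bound hs hp P h)
  exact ⟨_, h1, isMulCommutative_sup hAP⟩

end Cfsg.Agent.GStructB.ManyPiClasses
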